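import Mathlib
import Cfsg.Agent.OddCyclic.EO.Fit
import Cfsg.Agent.OddCyclic.T1Defs

/-!
# A central element of order 5, a cyclic Sylow 5-subgroup of order at least 25 and an involution
-/

set_option autoImplicit false
set_option linter.unusedSectionVars false
set_option linter.style.haveILetI false

namespace Cfsg.Agent.OddCyclic.EO.TF.End5

open Subgroup Cfsg.Agent.OddCyclic.T1Defs

universe u

theorem mem_of_odd {D : Type u} [Group D] {K : Subgroup D} (hK : K.index = 2) {x : D} {n : ℕ} (hn : Odd n)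
    (hx : x ^ n = 1) : x ∈ K := by
  obtain ⟨m, hm⟩ := hn
  have h1 : x = (x ^ (m + 1)) ^ 2 := by
    rw [← pow_mul, show (m + 1) * 2 = n + 1 by omega, pow_succ, hx, one_mul]
  rw [h1]
  exact Subgroup.sq_mem_of_index_two hK _

theorem core_step {D : Type u} [Group D] [Finite D] {z f : D} (hzz : z * z = 1) (hz1 : z ≠ 1)
    (hf : orderOf f = 5) (hfc : ∀ d : D, d * f = f * d) (hcyc : OddCyc D) (h25 : 25 ∣ Nat.card D)
    (hcz : ¬ 25 ∣ Nat.card (centralizer ({z} : Set D)))
    (h2 : ∀ s : D, s * z = z * s → (∃ n : ℕ, s ^ 2 ^ n = 1) → s = 1 ∨ s = z) : False := by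
  classical
  haveI : Fact (Nat.Prime 2) := ⟨Nat.prime_two⟩
  haveI : Fact (Nat.Prime 5) := ⟨by norm_num⟩
  have hzo : orderOf z = 2 := orderOf_eq_prime (by rw [pow_two]; exact hzz) hz1
  have hz2 : IsPGroup 2 (zpowers z) := IsPGroup.of_card (n := 1) (by rw [Nat.card_zpowers, hzo, pow_one])
  obtain ⟨S, hS⟩ := hz2.exists_le_sylow
  have hzS : z ∈ (S : Subgroup D) := hS (mem_zpowers z)
  have htwo : ∀ s ∈ (S : Subgroup D), ∃ n : ℕ, s ^ 2 ^ n = 1 := by
    intro s hs
    obtain ⟨n, hn⟩ := S.2 ⟨s, hs⟩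
    exact ⟨n, congrArg Subtype.val hn⟩
  -- `S = ⟨z⟩`
  have hS1 : ∀ s ∈ (S : Subgroup D), s = 1 ∨ s = z := by
    haveI : Nontrivial (S : Subgroup D) := ⟨⟨⟨z, hzS⟩, 1, fun e => hz1 (congrArg Subtype.val e)⟩⟩
    haveI := S.2.center_nontrivial
    obtain ⟨⟨⟨c, hcS⟩, hcc⟩, hc1⟩ := exists_ne (1 : center (S : Subgroup D))
    have hc1' : c ≠ 1 := fun e => hc1 (Subtype.ext (Subtype.ext e))
    have hcm : ∀ s ∈ (S : Subgroup D), s * c = c * s := fun s hs =>
      congrArg Subtype.val (mem_center_iff.mp hcc ⟨s, hs⟩)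
    have hcz' : c = z := (h2 c (hcm z hzS).symm (htwo c hcS)).resolve_left hc1'
    intro s hs
    refine h2 s ?_ (htwo s hs)
    rw [← hcz']; exact hcm s hs
  have hSz : (S : Subgroup D) = zpowers z := by
    apply le_antisymm _ hS
    intro s hs
    rcases hS1 s hs with e | e
    · rw [e]; exact one_mem _
    · rw [e]; exact mem_zpowers z
  have hScard : Nat.card S = 2 := by
    change Nat.card (S : Subgroup D) = 2
    rw [hSz, Nat.card_zpowers, hzo]
  haveI hScyc : IsCyclic S := isCyclic_of_prime_card hScard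
  have h2D : 2 ∣ Nat.card D := by rw [← hzo]; exact orderOf_dvd_natCard z
  have hmin : (Nat.card D).minFac = 2 := (Nat.minFac_eq_two_iff _).mpr h2D
  have hcompl := hScyc.isComplement' hmin
  set K := (MonoidHom.transferSylow S (hScyc.normalizer_le_centralizer hmin)).ker with hKd
  have hcardK : Nat.card K * 2 = Nat.card D := by
    have := hcompl.card_mul_card
    rw [← hScard]
    exact this
  have hKidx : K.index = 2 := by
    have h1 := Subgroup.card_mul_index K
    rw [← hcardK] at h1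
    exact Nat.eq_of_mul_eq_mul_left Nat.card_pos h1
  -- a Sylow 5-subgroup
  obtain ⟨P⟩ : Nonempty (Sylow 5 D) := inferInstance
  have hPK : (P : Subgroup D) ≤ K := by
    intro x hx
    obtain ⟨n, hn⟩ := P.2 ⟨x, hx⟩
    exact mem_of_odd hKidx (n := 5 ^ n) (Odd.pow (by decide)) (congrArg Subtype.val hn)
  have hfr := Sylow.normalizer_sup_eq_top' P hPK
  have hev : 2 ∣ Nat.card (normalizer ((P : Subgroup D) : Set D)) := by
    by_contra hodd
    have h1 : normalizer ((P : Subgroup D) : Set D) ≤ K := by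
      intro x hx
      have h2 : (⟨x, hx⟩ : normalizer ((P : Subgroup D) : Set D)) ^ Nat.card (normalizer ((P : Subgroup D) : Set D)) = 1 :=
        pow_card_eq_one'
      exact mem_of_odd hKidx (Nat.odd_iff.mpr (by omega)) (congrArg Subtype.val h2)
    have h3 : K = ⊤ := by rw [← hfr]; exact (sup_eq_right.mpr h1).symm
    rw [h3, index_top] at hKidx
    norm_num at hKidx
  obtain ⟨⟨s, hsN⟩, hso⟩ := exists_prime_orderOf_dvd_card' 2 hev
  rw [orderOf_mk] at hso
  have hss : s * s = 1 := by rw [← pow_two, ← hso]; exact pow_orderOf_eq_one s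
  have hs1 : s ≠ 1 := fun e => by rw [e, orderOf_one] at hso; norm_num at hso
  -- `s` is conjugate to `z`
  obtain ⟨g, hg⟩ : ∃ g : D, s = g * z * g⁻¹ := by
    have hs2 : IsPGroup 2 (zpowers s) := IsPGroup.of_card (n := 1) (by rw [Nat.card_zpowers, hso, pow_one])
    obtain ⟨S', hS'⟩ := hs2.exists_le_sylow
    obtain ⟨g, hg⟩ := MulAction.exists_smul_eq D S S'
    have h1 : s ∈ ((g • S : Sylow 2 D) : Subgroup D) := by rw [hg]; exact hS' (mem_zpowers s)
    obtain ⟨u, hu, hus⟩ := h1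
    have hus' : g * u * g⁻¹ = s := hus
    rcases hS1 u hu with e | e
    · exfalso; apply hs1; rw [← hus', e]; group
    · exact ⟨g, by rw [← hus', e]⟩
  -- `f ∈ P`
  have hfP : f ∈ (P : Subgroup D) := by
    have hf5 : IsPGroup 5 (zpowers f) := IsPGroup.of_card (n := 1) (by rw [Nat.card_zpowers, hf, pow_one])
    obtain ⟨P', hP'⟩ := hf5.exists_le_sylow
    obtain ⟨g, hg⟩ := MulAction.exists_smul_eq D P P'
    have h1 : f ∈ ((g • P : Sylow 5 D) : Subgroup D) := by rw [hg]; exact hP' (mem_zpowers f)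
    obtain ⟨u, hu, hus⟩ := h1
    have hus' : g * u * g⁻¹ = f := hus
    have e : u = f := by
      calc u = g⁻¹ * (g * u * g⁻¹) * g := by group
        _ = g⁻¹ * (f * g) := by rw [hus']; group
        _ = f := by rw [← hfc g]; group
    rw [← e]; exact hu
  -- `s` centralizes `P`
  haveI hPcyc : IsCyclic P := hcyc 5 P (by norm_num) (by norm_num)
  obtain ⟨⟨x, hxP⟩, hx⟩ := hPcyc.exists_generator
  have hgen : ∀ w ∈ (P : Subgroup D), w ∈ zpowers x := by
    intro w hw
    obtain ⟨k, hk⟩ := hx ⟨w, hw⟩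
    exact ⟨k, congrArg Subtype.val hk⟩
  have hsx : s * x = x * s := by
    obtain ⟨m, hm⟩ := IsPGroup.iff_orderOf.mp P.2 ⟨x, hxP⟩
    rw [orderOf_mk] at hm
    have hPN : (P : Subgroup D) ≤ normalizer ((P : Subgroup D) : Set D) := le_normalizer
    haveI hc1 : IsCyclic ((P : Subgroup D).subgroupOf (normalizer ((P : Subgroup D) : Set D))) :=
      isCyclic_of_surjective (subgroupOfEquivOfLe hPN).symm (subgroupOfEquivOfLe hPN).symm.surjective
    have hn1 : ((P : Subgroup D).subgroupOf (normalizer ((P : Subgroup D) : Set D))).Normal := normal_in_normalizer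
    rcases Fit.pm hc1 hn1 (a := ⟨s, hsN⟩) (g := ⟨x, hPN hxP⟩) (Subtype.ext hss) (mem_subgroupOf.mpr hxP)
      (r := 5) (m := m) (by norm_num) (by norm_num) (by rw [orderOf_mk]; exact hm) with e | e
    · exact congrArg Subtype.val e
    · exfalso
      have e1 : s * x * s⁻¹ = x⁻¹ := congrArg Subtype.val e
      obtain ⟨k, hk⟩ := hgen f hfP
      have hk' : x ^ k = f := hk
      have e2 : s * f * s⁻¹ = f⁻¹ := by rw [← hk', ← conj_zpow, e1, inv_zpow]
      rw [hfc s, mul_inv_cancel_right] at e2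
      have e3 : f ^ 2 = 1 := by rw [pow_two]; nth_rewrite 2 [e2]; exact mul_inv_cancel f
      have e4 := orderOf_dvd_of_pow_eq_one e3
      rw [hf] at e4
      norm_num at e4
  have hsP : ∀ w ∈ (P : Subgroup D), w * s = s * w := by
    intro w hw
    obtain ⟨k, hk⟩ := hgen w hw
    have hk' : x ^ k = w := hk
    rw [← hk']
    exact ((show Commute s x from hsx).zpow_right k).eq.symm
  apply hcz
  have h1 : ((P : Subgroup D).map (MulAut.conj g⁻¹).toMonoidHom) ≤ centralizer ({z} : Set D) := by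
    rintro _ ⟨w, hw, rfl⟩
    rw [mem_centralizer_singleton_iff]
    change g⁻¹ * w * g⁻¹⁻¹ * z = z * (g⁻¹ * w * g⁻¹⁻¹)
    have h3 := hsP w hw
    rw [hg] at h3
    calc g⁻¹ * w * g⁻¹⁻¹ * z = g⁻¹ * (w * (g * z * g⁻¹)) * g := by group
      _ = g⁻¹ * (g * z * g⁻¹ * w) * g := by rw [h3]
      _ = z * (g⁻¹ * w * g⁻¹⁻¹) := by group
  have h3 : Nat.card ((P : Subgroup D).map (MulAut.conj g⁻¹).toMonoidHom) = Nat.card P :=
    (Nat.card_congr ((P : Subgroup D).equivMapOfInjective _ (MulAut.conj g⁻¹).injective).toEquiv).symm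
  have h4 : 5 ^ 2 ∣ Nat.card P := Sylow.pow_dvd_card_of_pow_dvd_card P (by norm_num; exact h25)
  exact (show 25 ∣ Nat.card P by norm_num at h4; exact h4).trans (h3 ▸ Subgroup.card_dvd_of_le h1)

end Cfsg.Agent.OddCyclic.EO.TF.End5
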