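import Mathlib
import Cfsg.Agent.OddCyclic.EO.TF.TriQK
import Cfsg.Agent.OddCyclic.EO.Line

/-!
# (A8): no involution is centralized by `X_p` and `X_q`
-/

set_option autoImplicit false
set_option linter.unusedSectionVars false
set_option linter.style.haveILetI false

namespace Cfsg.Agent.OddCyclic.EO.TF.Kill

open Subgroup Cfsg Cfsg.Agent.ZN Cfsg.Agent.MinSimple.Geo
open Cfsg.Agent.OddCyclic.EO.TF.Tri (Pt kst K Q)
open Cfsg.Agent.OddCyclic.EO.TF.TriAct Cfsg.Agent.OddCyclic.EO.TF.TriQK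
open Cfsg.Agent.OddCyclic.EO.DegH
open Cfsg.Agent.MinSimple.VModule (oddGen mem_oddGen oddGen_le le_normalizer_oddGen)
open Cfsg.Agent.MinSimple.Killing (ncl conj_mem_ncl self_mem_ncl ncl_mono ncl_le ncl_le_of_conj
  conj_mem_of_mem_ncl)
open Cfsg.Agent.ZN.Block (conj_mem_of_normalizer conj_mem_of_normalizer' card_mul_relIndex'
  le_normalizer_of_forall o2_le o2_conj o2_isPGroup)

universe u

variable {G : Type u} [Group G] [Finite G] {V : Subgroup G} {U C : G → Subgroup G} {p q : G}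

/-- a 2-group contained in its commutator subgroup is trivial -/
theorem eq_bot_of_le_commutator {N : Subgroup G} (h2 : IsPGroup 2 N) (h : N ≤ ⁅N, N⁆) : N = ⊥ := by
  haveI : Fact (Nat.Prime 2) := ⟨Nat.prime_two⟩
  have h1 : ∀ n, N ≤ Line.dser N n := by
    intro n
    induction n with
    | zero => exact le_rfl
    | succ n ih => exact h.trans (commutator_mono ih ih)
  haveI : Group.IsNilpotent N := h2.isNilpotent
  obtain ⟨n, hn⟩ := (Group.isSolvable_def N).mp inferInstance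
  have h3 := h1 n
  rw [Line.dser_eq, hn, Subgroup.map_bot] at h3
  exact le_bot_iff.mp h3

theorem pow_five (h : Tri V U C) (hp : Pt V p) {f : G} (hf : IsF U C p f) : f ^ 5 = 1 := by
  obtain ⟨n, hn⟩ := exists_pow_of_mem_Q h hp hf.pow
  exact eq_one_of_odd (Odd.of_dvd_nat hf.odd (orderOf_pow_dvd 5)) hn

/-- `[U_p, f]` -/
def com (h : Tri V U C) (hp : Pt V p) {f : G} (hf : IsF U C p f) : Subgroup G where
  carrier := {x | ∃ u ∈ U p, x = f * u * f⁻¹ * u⁻¹}
  one_mem' := ⟨1, one_mem _, by group⟩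
  mul_mem' := by
    rintro _ _ ⟨u, hu, rfl⟩ ⟨v, hv, rfl⟩
    refine ⟨u * v, mul_mem hu hv, ?_⟩
    have h1 := h.commU hp (inv_mem hu) (h.conj_memU hp hf.mem hv)
    have h2 := h.commU hp (inv_mem hu) (inv_mem hv)
    calc f * u * f⁻¹ * u⁻¹ * (f * v * f⁻¹ * v⁻¹) = f * u * f⁻¹ * (u⁻¹ * (f * v * f⁻¹)) * v⁻¹ := by group
      _ = f * u * f⁻¹ * ((f * v * f⁻¹) * u⁻¹) * v⁻¹ := by rw [h1]
      _ = f * (u * v) * f⁻¹ * (u⁻¹ * v⁻¹) := by group
      _ = f * (u * v) * f⁻¹ * (v⁻¹ * u⁻¹) := by rw [h2]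
      _ = f * (u * v) * f⁻¹ * (u * v)⁻¹ := by group
  inv_mem' := by
    rintro _ ⟨u, hu, rfl⟩
    refine ⟨u⁻¹, inv_mem hu, ?_⟩
    have h1 := h.commU hp hu (h.conj_memU hp hf.mem (inv_mem hu))
    calc (f * u * f⁻¹ * u⁻¹)⁻¹ = u * (f * u⁻¹ * f⁻¹) := by group
      _ = f * u⁻¹ * f⁻¹ * u := h1
      _ = f * u⁻¹ * f⁻¹ * u⁻¹⁻¹ := by rw [inv_inv]

theorem com_le (h : Tri V U C) (hp : Pt V p) {f : G} (hf : IsF U C p f) : com h hp hf ≤ U p := by
  rintro _ ⟨u, hu, rfl⟩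
  exact mul_mem (h.conj_memU hp hf.mem hu) (inv_mem hu)

theorem com_norm (h : Tri V U C) (hp : Pt V p) {f : G} (hf : IsF U C p f) {a : G} (ha : a ∈ com h hp hf) :
    f * a * f⁻¹ ∈ com h hp hf := by
  obtain ⟨u, hu, rfl⟩ := ha
  exact ⟨f * u * f⁻¹, h.conj_memU hp hf.mem hu, by group⟩

theorem eq_of_fix (h : Tri V U C) (hp : Pt V p) {f a : G} (hf : IsF U C p f) (ha : a ∈ U p)
    (he : f * a * f⁻¹ * a⁻¹ ∈ zpowers p) : a = 1 ∨ a = p := by
  refine IsF.fixed h hp hf ha ?_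
  rcases (mem_zpowers_p h hp).mp he with e | e
  · left; exact mul_inv_eq_one.mp e
  · right; exact mul_inv_eq_iff_eq_mul.mp e

theorem p_notMem (h : Tri V U C) (hp : Pt V p) {f : G} (hf : IsF U C p f) : p ∉ com h hp hf := by
  rintro ⟨u, hu, e⟩
  have h1 := eq_of_fix h hp hf hu (by rw [← e]; exact mem_zpowers p)
  rcases h1 with rfl | rfl
  · apply hp.2; rw [e]; group
  · apply hp.2
    have h2 := h.c_comm hp hf.mem
    rw [h2, mul_inv_cancel_right, mul_inv_cancel] at e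
    exact e

theorem card_com (h : Tri V U C) (hp : Pt V p) {f : G} (hf : IsF U C p f) : Nat.card (com h hp hf) = 16 := by
  let φ : U p →* com h hp hf :=
    { toFun := fun u => ⟨f * u * f⁻¹ * (u : G)⁻¹, u, u.2, rfl⟩
      map_one' := Subtype.ext (by simp)
      map_mul' := by
        rintro ⟨u, hu⟩ ⟨v, hv⟩
        apply Subtype.ext
        change f * (u * v) * f⁻¹ * (u * v)⁻¹ = f * u * f⁻¹ * u⁻¹ * (f * v * f⁻¹ * v⁻¹)
        have h1 := h.commU hp (inv_mem hu) (h.conj_memU hp hf.mem hv)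
        have h2 := h.commU hp (inv_mem hu) (inv_mem hv)
        symm
        calc f * u * f⁻¹ * u⁻¹ * (f * v * f⁻¹ * v⁻¹) = f * u * f⁻¹ * (u⁻¹ * (f * v * f⁻¹)) * v⁻¹ := by group
          _ = f * u * f⁻¹ * ((f * v * f⁻¹) * u⁻¹) * v⁻¹ := by rw [h1]
          _ = f * (u * v) * f⁻¹ * (u⁻¹ * v⁻¹) := by group
          _ = f * (u * v) * f⁻¹ * (v⁻¹ * u⁻¹) := by rw [h2]
          _ = f * (u * v) * f⁻¹ * (u * v)⁻¹ := by group }
  have hs : Function.Surjective φ := by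
    rintro ⟨_, u, hu, rfl⟩
    exact ⟨⟨u, hu⟩, rfl⟩
  have hk : Nat.card φ.ker = 2 := by
    have h1 : φ.ker = (zpowers p).subgroupOf (U p) := by
      ext ⟨u, hu⟩
      rw [MonoidHom.mem_ker, mem_subgroupOf]
      constructor
      · intro e
        have e1 : f * u * f⁻¹ * u⁻¹ = 1 := congrArg Subtype.val e
        rw [mem_zpowers_p h hp]
        exact eq_of_fix h hp hf hu (by rw [e1]; exact one_mem _)
      · intro e
        apply Subtype.ext
        change f * u * f⁻¹ * u⁻¹ = 1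
        rcases (mem_zpowers_p h hp).mp e with e1 | e1
        · change u = 1 at e1; rw [e1]; group
        · change u = p at e1
          rw [e1, h.c_comm hp hf.mem, mul_inv_cancel_right, mul_inv_cancel]
    rw [h1]
    have h2 : zpowers p ≤ U p := by rw [zpowers_le]; exact h.p_mem hp hp
    rw [Nat.card_congr (subgroupOfEquivOfLe h2).toEquiv, Nat.card_zpowers]
    exact orderOf_eq_prime (by rw [pow_two]; exact h.pp hp) hp.2
  have h1 := Subgroup.card_eq_card_quotient_mul_card_subgroup φ.ker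
  rw [hk, Nat.card_congr (QuotientGroup.quotientKerEquivOfSurjective _ hs).toEquiv, h.cardU p hp] at h1
  omega

/-- `U_p = [U_p, f] × ⟨p⟩` -/
theorem exists_com (h : Tri V U C) (hp : Pt V p) {f u : G} (hf : IsF U C p f) (hu : u ∈ U p) :
    u ∈ com h hp hf ∨ p * u ∈ com h hp hf := by
  by_contra hcon
  push Not at hcon
  have hrel : (com h hp hf).relIndex (U p) = 2 := by
    have h1 := card_mul_relIndex' (com_le h hp hf)
    rw [card_com, h.cardU p hp] at h1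
    omega
  rw [relIndex] at hrel
  have h1 := Subgroup.mul_mem_iff_of_index_two hrel (a := ⟨p, h.p_mem hp hp⟩) (b := ⟨u, hu⟩)
  rw [mem_subgroupOf, mem_subgroupOf, mem_subgroupOf] at h1
  exact hcon.2 (h1.mpr ⟨fun e => absurd e (p_notMem h hp hf), fun e => absurd e hcon.1⟩)

/-- the image in a quotient of a subgroup `X` containing `U_p` and `f` -/
theorem fp5 (h : Tri V U C) (hp : Pt V p) {f : G} (hf : IsF U C p f) {X : Subgroup G} (hUX : U p ≤ X)
    (hfX : f ∈ X) {N : Subgroup X} [N.Normal] (hN : ∀ u : X, (u : G) ∈ U p → u ∈ N → u = 1) :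
    Fp5 (((com h hp hf).subgroupOf X).map (QuotientGroup.mk' N)) ((⟨f, hfX⟩ : X) : X ⧸ N) := by
  have hcX : com h hp hf ≤ X := (com_le h hp hf).trans hUX
  have hm : ∀ {a : X ⧸ N}, a ∈ ((com h hp hf).subgroupOf X).map (QuotientGroup.mk' N) →
      ∃ u : X, (u : G) ∈ com h hp hf ∧ (u : X ⧸ N) = a := by
    rintro _ ⟨u, hu, rfl⟩
    exact ⟨u, hu, rfl⟩
  have hinj : ∀ u v : X, (u : G) ∈ com h hp hf → (v : G) ∈ com h hp hf → (u : X ⧸ N) = (v : X ⧸ N) → u = v := by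
    intro u v hu hv e
    rw [QuotientGroup.eq] at e
    have h1 := hN (u⁻¹ * v) (mul_mem (inv_mem (com_le h hp hf hu)) (com_le h hp hf hv)) e
    exact inv_mul_eq_one.mp h1
  have hf5 := pow_five h hp hf
  refine ⟨?_, ?_, ⟨1, ?_⟩, ?_, ?_, ?_⟩
  · have e1 : Nat.card ((com h hp hf).subgroupOf X) = 16 := by
      rw [Nat.card_congr (subgroupOfEquivOfLe hcX).toEquiv, card_com]
    rw [← e1]
    refine (Nat.card_congr (Equiv.ofBijective
      (fun u : (com h hp hf).subgroupOf X => (⟨((u : X) : X ⧸ N), u, u.2, rfl⟩ :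
        ((com h hp hf).subgroupOf X).map (QuotientGroup.mk' N))) ⟨?_, ?_⟩)).symm
    · rintro u v e
      exact Subtype.ext (hinj u v u.2 v.2 (congrArg Subtype.val e))
    · rintro ⟨_, u, hu, rfl⟩
      exact ⟨⟨u, hu⟩, rfl⟩
  · intro a ha
    obtain ⟨u, hu, rfl⟩ := hm ha
    have : u * u = 1 := Subtype.ext (h.sqU p hp u (com_le h hp hf hu))
    rw [← QuotientGroup.mk_mul, this, QuotientGroup.mk_one]
  · rw [pow_one, ← QuotientGroup.mk_pow]
    have : (⟨f, hfX⟩ : X) ^ 5 = 1 := Subtype.ext hf5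
    rw [this, QuotientGroup.mk_one]
  · intro a ha
    obtain ⟨u, hu, rfl⟩ := hm ha
    exact ⟨⟨f, hfX⟩ * u * ⟨f, hfX⟩⁻¹, com_norm h hp hf hu, rfl⟩
  · intro a ha e
    obtain ⟨u, hu, rfl⟩ := hm ha
    rw [← QuotientGroup.mk_mul, ← QuotientGroup.mk_mul] at e
    have h1 : ((⟨f, hfX⟩ * u * ⟨f, hfX⟩⁻¹ * u⁻¹ : X) : X ⧸ N) = 1 := by
      have e2 : (⟨f, hfX⟩ * u * ⟨f, hfX⟩⁻¹ * u⁻¹ : X) = (⟨f, hfX⟩ * u) * (u * ⟨f, hfX⟩)⁻¹ := by group
      rw [e2, QuotientGroup.mk_mul, QuotientGroup.mk_inv, e, mul_inv_cancel]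
    rw [QuotientGroup.eq_one_iff] at h1
    have hfu : ((⟨f, hfX⟩ * u * ⟨f, hfX⟩⁻¹ * u⁻¹ : X) : G) ∈ U p :=
      mul_mem (h.conj_memU hp hf.mem (com_le h hp hf hu)) (inv_mem (com_le h hp hf hu))
    have h2 := congrArg Subtype.val (hN _ hfu h1)
    have h3 : f * (u : G) * f⁻¹ * (u : G)⁻¹ = 1 := h2
    have h4 := eq_of_fix h hp hf (com_le h hp hf hu) (by rw [h3]; exact one_mem _)
    rcases h4 with h5 | h5
    · have : u = 1 := Subtype.ext h5
      rw [this, QuotientGroup.mk_one]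
    · exact absurd (h5 ▸ hu) (p_notMem h hp hf)
  · intro a ha
    have h1 : ((⟨f, hfX⟩ : X) : X ⧸ N) ^ 5 = 1 := by
      rw [← QuotientGroup.mk_pow]
      have : (⟨f, hfX⟩ : X) ^ 5 = 1 := Subtype.ext hf5
      rw [this, QuotientGroup.mk_one]
    rw [h1, one_mul, mul_one]

/-- **(A8)**: no involution is centralized by `X_p` and `X_q` -/
theorem kill (h : Tri V U C) (hp : Pt V p) (hq : Pt V q) (hpq : p ≠ q) {r : G} (hrr : r * r = 1)
    (h1 : oddGen (C p) ≤ centralizer ({r} : Set G)) (h2 : oddGen (C q) ≤ centralizer ({r} : Set G)) : r = 1 := by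
  by_contra hr1
  obtain ⟨f, hf⟩ := exists_isF h hp
  obtain ⟨g, hg⟩ := exists_isF h hq
  have hfX := mem_oddGen hf.mem hf.odd
  have hgX := mem_oddGen hg.mem hg.odd
  obtain ⟨h3, h4, h5⟩ := h.third hp hq hpq
  set X := centralizer ({r} : Set G) with hX
  have hUp : U p ≤ X := (U_le_oddGen h hp).trans h1
  have hUq : U q ≤ X := (U_le_oddGen h hq).trans h2
  set O := o2 X with hO
  have hO2 : IsPGroup 2 O := o2_isPGroup X
  have up : ∀ u ∈ U p, u ≠ 1 → u ≠ p → u ∈ O → U p ≤ O := fun u hu hu1 hup huO =>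
    (U_le_ncl h hp (oddGen_le _) (le_normalizer_oddGen _) hf hfX hu hu1 hup).trans
      (ncl_le_of_conj huO fun x hx k hk => o2_conj (h1 hx) hk)
  have uq : ∀ u ∈ U q, u ≠ 1 → u ≠ q → u ∈ O → U q ≤ O := fun u hu hu1 hup huO =>
    (U_le_ncl h hq (oddGen_le _) (le_normalizer_oddGen _) hg hgX hu hu1 hup).trans
      (ncl_le_of_conj huO fun x hx k hk => o2_conj (h2 hx) hk)
  have hvp : p * q ∈ U p := h.p_mem h3 hp
  have hvq : p * q ∈ U q := h.p_mem h3 hq
  -- `v = pq ∉ O`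
  have hv : p * q ∉ O := by
    intro hv
    set N := ncl (oddGen (C p) ⊔ oddGen (C q)) (p * q) with hN
    have hle : oddGen (C p) ⊔ oddGen (C q) ≤ X := sup_le h1 h2
    have hNO : N ≤ O := ncl_le_of_conj hv fun x hx k hk => o2_conj (hle hx) hk
    have e1 : U p ≤ N := (U_le_ncl h hp (oddGen_le _) (le_normalizer_oddGen _) hf hfX hvp h3.2 h4).trans
      (ncl_mono le_sup_left _)
    have e2 : U q ≤ N := (U_le_ncl h hq (oddGen_le _) (le_normalizer_oddGen _) hg hgX hvq h3.2 h5).trans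
      (ncl_mono le_sup_right _)
    have e3 : p * q ∈ ⁅N, N⁆ := commutator_mono e1 e2 (third_mem_comm h hp hq hpq)
    have e4 : N ≤ ⁅N, N⁆ := by
      refine ncl_le_of_conj e3 fun x hx k hk => ?_
      have e5 : (⁅N, N⁆).map (MulAut.conj x).toMonoidHom ≤ ⁅N, N⁆ := by
        rw [map_commutator]
        have e6 : N.map (MulAut.conj x).toMonoidHom ≤ N := by
          rintro _ ⟨n, hn, rfl⟩
          exact conj_mem_of_mem_ncl hx hn
        exact commutator_mono e6 e6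
      exact e5 ⟨k, hk, rfl⟩
    have e5 := eq_bot_of_le_commutator (hO2.to_le hNO) e4
    have e6 : p * q ∈ N := self_mem_ncl _ _
    rw [e5, mem_bot] at e6
    exact h3.2 e6
  have hpO : p ∉ O := fun e => hv (uq p (h.p_mem hp hq) hp.2 hpq e hvq)
  have hqO : q ∉ O := fun e => hv (up q (h.p_mem hq hp) hq.2 hpq.symm e hvp)
  have hUpO : ∀ u ∈ U p, u ∈ O → u = 1 := by
    intro u hu huO
    by_contra hu1
    by_cases hup : u = p
    · exact hpO (hup ▸ huO)
    · exact hv (up u hu hu1 hup huO hvp)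
  have hUqO : ∀ u ∈ U q, u ∈ O → u = 1 := by
    intro u hu huO
    by_contra hu1
    by_cases hup : u = q
    · exact hqO (hup ▸ huO)
    · exact hv (uq u hu hu1 hup huO hvq)
  haveI hn : (pCore 2 X).Normal := Cfsg.Agent.Lib.Cores.pCore_normal 2
  have hmem : ∀ u : X, u ∈ pCore 2 X ↔ (u : G) ∈ O := by
    intro u
    constructor
    · intro hu; exact ⟨u, hu, rfl⟩
    · rintro ⟨v, hv, e⟩
      have : v = u := Subtype.ext e
      exact this ▸ hv
  have F1 := fp5 h hp hf hUp (h1 hfX) (N := pCore 2 X) (fun u hu huN =>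
    Subtype.ext (hUpO u hu ((hmem u).mp huN)))
  have F2 := fp5 h hq hg hUq (h2 hgX) (N := pCore 2 X) (fun u hu huN =>
    Subtype.ext (hUqO u hu ((hmem u).mp huN)))
  have h2g : IsPGroup 2 ↥(((com h hp hf).subgroupOf X).map (QuotientGroup.mk' (pCore 2 X)) ⊔
      ((com h hq hg).subgroupOf X).map (QuotientGroup.mk' (pCore 2 X))) := by
    rw [← Subgroup.map_sup]
    refine IsPGroup.map ?_ _
    have e1 : (com h hp hf).subgroupOf X ⊔ (com h hq hg).subgroupOf X ≤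
        (centralizer (V : Set G)).subgroupOf X := by
      refine sup_le (fun u hu => ?_) (fun u hu => ?_)
      · exact h.U_le_centV hp (com_le h hp hf hu)
      · exact h.U_le_centV hq (com_le h hq hg hu)
    refine IsPGroup.to_le ?_ e1
    have e2 := isPGroup_centV h hp
    exact e2.comap_of_injective X.subtype X.subtype_injective
  have key := h.five r hrr hr1 _ _ _ _ F1 F2 h2g
  -- `[U_p, U_q] ≤ O`
  obtain ⟨a, ha, b, hb, hab⟩ := exists_mover h hp hq hpq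
  have comm : ∀ x ∈ com h hp hf, ∀ y ∈ com h hq hg, x * y * x⁻¹ * y⁻¹ ∈ O := by
    intro x hx y hy
    have hxX := hUp (com_le h hp hf hx)
    have hyX := hUq (com_le h hq hg hy)
    have e1 := key ((⟨x, hxX⟩ : X) : X ⧸ pCore 2 X) ⟨⟨x, hxX⟩, hx, rfl⟩ ((⟨y, hyX⟩ : X) : X ⧸ pCore 2 X)
      ⟨⟨y, hyX⟩, hy, rfl⟩
    have e2 : ((⟨x, hxX⟩ * ⟨y, hyX⟩ * ⟨x, hxX⟩⁻¹ * ⟨y, hyX⟩⁻¹ : X) : X ⧸ pCore 2 X) = 1 := by
      have e3 : (⟨x, hxX⟩ * ⟨y, hyX⟩ * ⟨x, hxX⟩⁻¹ * ⟨y, hyX⟩⁻¹ : X) =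
          (⟨x, hxX⟩ * ⟨y, hyX⟩) * (⟨y, hyX⟩ * ⟨x, hxX⟩)⁻¹ := by group
      rw [e3, QuotientGroup.mk_mul, QuotientGroup.mk_inv, QuotientGroup.mk_mul, QuotientGroup.mk_mul, e1,
        mul_inv_cancel]
    rw [QuotientGroup.eq_one_iff, hmem] at e2
    exact e2
  have hpa : p * a = a * p :=
    (mem_centralizer_iff.mp (h.U_le_centV hq ha.1) p hp.1)
  have hqb : q * b = b * q :=
    (mem_centralizer_iff.mp (h.U_le_centV hp hb) q hq.1)
  have hpq' : p * q = q * p := (mem_centralizer_iff.mp (h.U_le_centV hq (h.p_mem hq hq)) p hp.1)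
  have hpb : p * b = b * p := (h.commU hp (h.p_mem hp hp) hb)
  have hqa : q * a = a * q := (h.commU hq (h.p_mem hq hq) ha.1)
  have k1 : ∀ a', (a' = a ∨ a' = q * a) → a' * b * a'⁻¹ = p * b ∧ p * a' = a' * p := by
    rintro a' (rfl | rfl)
    · exact ⟨hab, hpa⟩
    · constructor
      · calc q * a * b * (q * a)⁻¹ = q * (a * b * a⁻¹) * q⁻¹ := by group
          _ = q * (p * b) * q⁻¹ := by rw [hab]
          _ = (q * p) * b * q⁻¹ := by group
          _ = p * (q * b) * q⁻¹ := by rw [← hpq']; group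
          _ = p * b := by rw [hqb]; group
      · rw [← mul_assoc, hpq', mul_assoc, hpa, ← mul_assoc]
  have k2 : ∀ a', (a' = a ∨ a' = q * a) → ∀ b', (b' = b ∨ b' = p * b) → a' * b' * a'⁻¹ = p * b' := by
    intro a' ha' b' hb'
    obtain ⟨e1, e2⟩ := k1 a' ha'
    rcases hb' with rfl | rfl
    · exact e1
    · calc a' * (p * b) * a'⁻¹ = (a' * p) * b * a'⁻¹ := by group
        _ = p * (a' * b * a'⁻¹) := by rw [← e2]; group
        _ = p * (p * b) := by rw [e1]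
  obtain ⟨a', ha', hac⟩ : ∃ a', (a' = a ∨ a' = q * a) ∧ a' ∈ com h hq hg := by
    rcases exists_com h hq hg ha.1 with e | e
    · exact ⟨a, Or.inl rfl, e⟩
    · exact ⟨_, Or.inr rfl, e⟩
  obtain ⟨b', hb', hbc⟩ : ∃ b', (b' = b ∨ b' = p * b) ∧ b' ∈ com h hp hf := by
    rcases exists_com h hp hf hb with e | e
    · exact ⟨b, Or.inl rfl, e⟩
    · exact ⟨_, Or.inr rfl, e⟩
  have e1 := comm b' hbc a' hac
  have e2 := inv_mem e1
  have e3 : (b' * a' * b'⁻¹ * a'⁻¹)⁻¹ = p := by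
    have := k2 a' ha' b' hb'
    calc (b' * a' * b'⁻¹ * a'⁻¹)⁻¹ = (a' * b' * a'⁻¹) * b'⁻¹ := by group
      _ = p := by rw [this]; group
  rw [e3] at e2
  exact hpO e2

end Cfsg.Agent.OddCyclic.EO.TF.Kill
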