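import Mathlib
import Cfsg.Agent.OddCyclic.EO.TF.Tri
import Cfsg.Agent.OddCyclic.EO.TF.TriAct
import Cfsg.Agent.OddCyclic.EO.TF.TriQK
import Cfsg.Agent.OddCyclic.EO.TF.Kill
import Cfsg.Agent.MinSimple.VModule

/-!
# (A10) of the blueprint `P21-FIN-helper531.md`

`C_{K_p}(X_p) = ⟨p⟩`, `K_p ⊓ K_q = E`, `|K_p| = 32` or `64`.
-/

set_option autoImplicit false

namespace Cfsg.Agent.OddCyclic.EO.TF.TriTen

open Cfsg.Agent.Classification.TitsFin

open Subgroup Cfsg Cfsg.Agent.ZN Cfsg.Agent.MinSimple.Geo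
open Cfsg.Agent.OddCyclic.EO.TF.Tri (Pt kst K Q)
open Cfsg.Agent.OddCyclic.EO.TF.TriAct Cfsg.Agent.OddCyclic.EO.TF.TriQK
open Cfsg.Agent.MinSimple.VModule (oddGen mem_oddGen oddGen_le le_normalizer_oddGen)
open Cfsg.Agent.ZN.Block (conj_mem_of_normalizer conj_mem_of_normalizer' card_mul_relIndex')

universe u

variable {G : Type u} [Group G] [Finite G] {V : Subgroup G} {U C : G → Subgroup G} {p q : G}

/-! ### generalities -/

theorem exists_coset_fixed {G : Type*} [Group G] {U : Subgroup G} [Finite U] (hU : Nat.card U = 32) {f d : G} (hf : f ^ 5 = 1)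
    (hn : ∀ u ∈ U, f * u * f⁻¹ ∈ U) (hd : d⁻¹ * (f * d * f⁻¹) ∈ U) :
    ∃ u ∈ U, f * (d * u) * f⁻¹ = d * u := by
  classical
  have : Fintype U := Fintype.ofFinite U
  have : Fact (Nat.Prime 5) := ⟨by norm_num⟩
  let g : Function.End U := fun u => ⟨d⁻¹ * (f * (d * u.1) * f⁻¹), by
    have e : d⁻¹ * (f * (d * u.1) * f⁻¹) = d⁻¹ * (f * d * f⁻¹) * (f * u.1 * f⁻¹) := by group
    rw [e]
    exact mul_mem hd (hn _ u.2)⟩
  have hg : ∀ (n : ℕ) (u : U), (((g ^ n) u : U) : G) = d⁻¹ * (f ^ n * (d * u.1) * (f ^ n)⁻¹) := by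
    intro n
    induction n with
    | zero =>
      intro u
      show (u : G) = _
      simp
    | succ n ih =>
      intro u
      have e : (g ^ (n + 1)) u = g ((g ^ n) u) := by
        rw [pow_succ']
        rfl
      rw [e]
      show d⁻¹ * (f * (d * (((g ^ n) u : U) : G)) * f⁻¹) = _
      rw [ih u, pow_succ']
      group
  have h5 : g ^ 5 ^ 1 = 1 := by
    funext u
    apply Subtype.ext
    rw [hg]
    show d⁻¹ * (f ^ 5 ^ 1 * (d * u.1) * (f ^ 5 ^ 1)⁻¹) = u.1
    rw [pow_one, hf]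
    group
  have h1 := Equiv.Perm.card_fixedPoints_modEq h5
  have h2 : Fintype.card U = 32 := by rw [← Nat.card_eq_fintype_card, hU]
  rw [h2] at h1
  have h3 : Fintype.card (Function.fixedPoints g) ≠ 0 := by
    intro h0
    rw [h0] at h1
    have : (32 : ℕ) % 5 = 0 % 5 := h1
    norm_num at this
  obtain ⟨⟨u, hu⟩⟩ := Fintype.card_pos_iff.mp (Nat.pos_of_ne_zero h3)
  refine ⟨u.1, u.2, ?_⟩
  have h4 : d⁻¹ * (f * (d * u.1) * f⁻¹) = u.1 := congrArg Subtype.val (show g u = u from hu)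
  exact inv_mul_eq_iff_eq_mul.mp h4

theorem card_le_two_mul {H N : Subgroup G} (hNH : N ≤ H) (h : ∀ x ∈ H, ∀ y ∈ H, x ∉ N → y ∉ N → x⁻¹ * y ∈ N) :
    Nat.card H ≤ 2 * Nat.card N := by
  classical
  by_cases hx : ∃ x ∈ H, x ∉ N
  · obtain ⟨x, hx, hxN⟩ := hx
    have h1 : Nat.card H ≤ Nat.card (Bool × N) := by
      refine Nat.card_le_card_of_injective
        (fun y : H => if hy : (y : G) ∈ N then (true, (⟨y, hy⟩ : N)) else (false, ⟨x⁻¹ * y, h x hx y y.2 hxN hy⟩)) ?_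
      intro y y' e
      dsimp only at e
      split_ifs at e with h1 h2 h2
      · exact Subtype.ext (by simpa using e)
      · simp at e
      · simp at e
      · exact Subtype.ext (by simpa using e)
    rw [Nat.card_prod] at h1
    simpa using h1
  · push Not at hx
    have : H = N := le_antisymm hx hNH
    rw [this]
    omega

/-! ### the group `R0 p = C_{K_p}(X_p)` -/

/-- `C_{K_p}(X_p)` -/
def R0 (U C : G → Subgroup G) (p : G) : Subgroup G := K U p ⊓ centralizer (oddGen (C p) : Set G)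

omit [Finite G] in
theorem mem_R0 {k : G} : k ∈ R0 U C p ↔ k ∈ K U p ∧ ∀ x ∈ oddGen (C p), x * k = k * x := by
  unfold R0
  rw [mem_inf, mem_centralizer_iff]
  rfl

omit [Finite G] in
theorem K_comm {k u : G} (hk : k ∈ K U p) (hu : u ∈ U p) : u * k = k * u := mem_centralizer_iff.mp hk u hu

omit [Finite G] in
theorem p_mem_R0 (h : Tri V U C) (hp : Pt V p) : p ∈ R0 U C p := by
  rw [mem_R0]
  exact ⟨h.U_le_K hp (h.V_le p hp hp.1), fun x hx => h.c_comm hp (oddGen_le _ hx)⟩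

omit [Finite G] in
theorem R0_norm (h : Tri V U C) (hp : Pt V p) {c k : G} (hc : c ∈ C p) (hk : k ∈ R0 U C p) :
    c * k * c⁻¹ ∈ R0 U C p := by
  rw [mem_R0] at hk ⊢
  refine ⟨conj_mem_of_normalizer (h.C_le_normK hp) hc hk.1, fun x hx => ?_⟩
  have h1 := hk.2 _ (conj_mem_of_normalizer' (le_normalizer_oddGen (C p)) hc hx)
  calc x * (c * k * c⁻¹) = c * ((c⁻¹ * x * c) * k) * c⁻¹ := by group
    _ = c * (k * (c⁻¹ * x * c)) * c⁻¹ := by rw [h1]
    _ = c * k * c⁻¹ * x := by group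

theorem R0_inf_U (h : Tri V U C) (hp : Pt V p) {k : G} (hk : k ∈ R0 U C p) (hu : k ∈ U p) : k = 1 ∨ k = p := by
  obtain ⟨f, hf⟩ := exists_isF h hp
  have h1 := (mem_R0.mp hk).2 f (mem_oddGen hf.mem hf.odd)
  exact hf.fixed h hp hu (Or.inl (by rw [h1, mul_inv_cancel_right]))

/-- `x k x⁻¹ = u k` with `u ∈ U_p` -/
theorem exists_u (h : Tri V U C) (hp : Pt V p) {k x : G} (hk : k ∈ K U p) (hx : x ∈ oddGen (C p)) :
    ∃ u ∈ U p, x * k * x⁻¹ = u * k := by
  have h1 := comm_K_X h hp hk hx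
  refine ⟨(k * x * k⁻¹ * x⁻¹)⁻¹, inv_mem h1, by group⟩

theorem sq_mem_R0 (h : Tri V U C) (hp : Pt V p) {k : G} (hk : k ∈ K U p) : k * k ∈ R0 U C p := by
  rw [mem_R0]
  refine ⟨mul_mem hk hk, fun x hx => ?_⟩
  obtain ⟨u, hu, e⟩ := exists_u h hp hk hx
  have huk := K_comm hk hu
  have e2 : x * (k * k) * x⁻¹ = k * k := by
    calc x * (k * k) * x⁻¹ = (x * k * x⁻¹) * (x * k * x⁻¹) := by group
      _ = (u * k) * (u * k) := by rw [e]
      _ = u * (k * u) * k := by group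
      _ = u * (u * k) * k := by rw [huk]
      _ = (u * u) * (k * k) := by group
      _ = k * k := by rw [h.sqU p hp u hu, one_mul]
  exact mul_inv_eq_iff_eq_mul.mp e2

theorem comm_mem_R0 (h : Tri V U C) (hp : Pt V p) {k l : G} (hk : k ∈ K U p) (hl : l ∈ K U p) :
    k * l * k⁻¹ * l⁻¹ ∈ R0 U C p := by
  rw [mem_R0]
  refine ⟨mul_mem (mul_mem (mul_mem hk hl) (inv_mem hk)) (inv_mem hl), fun x hx => ?_⟩
  obtain ⟨u, hu, e⟩ := exists_u h hp hk hx
  obtain ⟨v, hv, e'⟩ := exists_u h hp hl hx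
  have c1 : Commute u k := K_comm hk hu
  have c2 : Commute u l := K_comm hl hu
  have c3 : Commute v k := K_comm hk hv
  have c4 : Commute v l := K_comm hl hv
  have c5 : Commute u v := h.commU hp hu hv
  have e2 : x * (k * l * k⁻¹ * l⁻¹) * x⁻¹ = k * l * k⁻¹ * l⁻¹ := by
    calc x * (k * l * k⁻¹ * l⁻¹) * x⁻¹ = (x * k * x⁻¹) * (x * l * x⁻¹) * (x * k * x⁻¹)⁻¹ * (x * l * x⁻¹)⁻¹ := by group
      _ = (u * k) * (v * l) * (u * k)⁻¹ * (v * l)⁻¹ := by rw [e, e']
      _ = (k * u) * (l * v) * (u * k)⁻¹ * (v * l)⁻¹ := by rw [c1.eq, c4.eq]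
      _ = k * (u * l) * v * k⁻¹ * u⁻¹ * (l⁻¹ * v⁻¹) := by group
      _ = k * (l * u) * v * k⁻¹ * u⁻¹ * (l⁻¹ * v⁻¹) := by rw [c2.eq]
      _ = k * l * (u * v) * k⁻¹ * u⁻¹ * (l⁻¹ * v⁻¹) := by group
      _ = k * l * (k⁻¹ * (u * v)) * u⁻¹ * (l⁻¹ * v⁻¹) := by
        have : Commute (u * v) k⁻¹ := (c1.mul_left c3).inv_right
        rw [mul_assoc (k * l), this.eq]
      _ = k * l * k⁻¹ * ((u * v) * u⁻¹) * (l⁻¹ * v⁻¹) := by group
      _ = k * l * k⁻¹ * (v * l⁻¹) * v⁻¹ := by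
        rw [c5.eq]
        group
      _ = k * l * k⁻¹ * (l⁻¹ * v) * v⁻¹ := by rw [c4.inv_right.eq]
      _ = _ := by group
  exact mul_inv_eq_iff_eq_mul.mp e2

theorem R0_le_K (h : Tri V U C) (hp : Pt V p) (hq : Pt V q) (hpq : p ≠ q) {k : G} (hk : k ∈ R0 U C p) :
    k ∈ K U q := by
  have hkK := (mem_R0.mp hk).1
  have hkC : k ∈ C q := h.K_le_C hq hp hkK
  have hcm : ∀ u ∈ U q, k * u * k⁻¹ * u⁻¹ = 1 ∨ k * u * k⁻¹ * u⁻¹ = p := by
    intro u hu
    have h1 := comm_K_U h hp hq hpq hkK hu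
    apply R0_inf_U h hp _ h1.1
    have h2 : u * k⁻¹ * u⁻¹ ∈ R0 U C p := R0_norm h hp (h.U_le_C hp hq hu) (inv_mem hk)
    have e : k * u * k⁻¹ * u⁻¹ = k * (u * k⁻¹ * u⁻¹) := by group
    rw [e]
    exact mul_mem hk h2
  have hQ : k ∈ Q U C q := by
    by_contra hQ
    obtain ⟨n, hn⟩ := isPGroup_K h hp ⟨k, hkK⟩
    have hn' : k ^ 2 ^ n = 1 := congrArg Subtype.val hn
    have h8 := eight_le h hq hkC (n := n) (by rw [hn']; exact one_mem _) hQ (W := V) hq.1 (fun u hu => by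
      rcases hcm u hu with e | e
      · rw [e]; exact one_mem _
      · rw [e]; exact hp.1)
    rw [h.cardV] at h8
    omega
  rw [mem_centralizer_iff]
  intro u hu
  rcases ((h.mem_Q_iff hq).mp hQ).2 u hu with e | e
  · exact (mul_inv_eq_iff_eq_mul.mp e).symm
  · exfalso
    rcases hcm u hu with e' | e'
    · rw [e, mul_inv_cancel_right] at e'
      exact hq.2 e'
    · rw [e, mul_inv_cancel_right] at e'
      exact hpq e'.symm

/-! ### `Q_p = (X_p ⊓ Q_p) K_p` -/

theorem pow_five (h : Tri V U C) (hp : Pt V p) {f : G} (hf : IsF U C p f) : f ^ 5 = 1 := by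
  obtain ⟨n, hn⟩ := isPGroup_Q h hp ⟨f ^ 5, hf.pow⟩
  have hn' : (f ^ 5) ^ 2 ^ n = 1 := congrArg Subtype.val hn
  have h1 : orderOf (f ^ 5) ∣ 2 ^ n := orderOf_dvd_of_pow_eq_one hn'
  have h2 : orderOf (f ^ 5) ∣ orderOf f := orderOf_pow_dvd 5
  have h3 : Odd (orderOf (f ^ 5)) := Odd.of_dvd_nat hf.odd h2
  have h4 : Nat.Coprime (orderOf (f ^ 5)) (2 ^ n) := (Nat.Coprime.pow_right n (Nat.coprime_two_right.mpr h3))
  exact orderOf_eq_one_iff.mp (Nat.eq_one_of_dvd_coprimes h4 (dvd_refl _) h1)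

theorem exists_X (h : Tri V U C) (hp : Pt V p) {c : G} (hc : c ∈ Q U C p) :
    ∃ x ∈ oddGen (C p), x ∈ Q U C p ∧ ∃ k ∈ K U p, c = x * k := by
  classical
  obtain ⟨f, hf⟩ := exists_isF h hp
  have hfC := hf.mem
  have hQC : Q U C p ≤ C p := Tri.kst_le _ _ _
  set X := oddGen (C p) ⊓ Q U C p with hX
  have hXn : ∀ c ∈ C p, ∀ x ∈ X, c * x * c⁻¹ ∈ X := fun c hc x hx =>
    ⟨conj_mem_of_normalizer (le_normalizer_oddGen (C p)) hc hx.1, conj_mem_of_normalizer (h.C_le_normQ hp) hc hx.2⟩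
  let N : Subgroup G :=
    { carrier := {c | ∃ x ∈ X, ∃ k ∈ K U p, c = x * k}
      one_mem' := ⟨1, one_mem _, 1, one_mem _, by simp⟩
      mul_mem' := by
        rintro _ _ ⟨x, hx, k, hk, rfl⟩ ⟨y, hy, l, hl, rfl⟩
        refine ⟨x * (k * y * k⁻¹), mul_mem hx (hXn k (h.K_le_C hp hp hk) y hy), k * l, mul_mem hk hl, by group⟩
      inv_mem' := by
        rintro _ ⟨x, hx, k, hk, rfl⟩
        refine ⟨k⁻¹ * x⁻¹ * k, ?_, k⁻¹, inv_mem hk, by group⟩
        have := hXn k⁻¹ (inv_mem (h.K_le_C hp hp hk)) _ (inv_mem hx)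
        rwa [inv_inv] at this }
  have hKN : K U p ≤ N := fun k hk => ⟨1, one_mem _, k, hk, by simp⟩
  have hNQ : N ≤ Q U C p := by
    rintro _ ⟨x, hx, k, hk, rfl⟩
    exact mul_mem hx.2 (h.K_le_Q hp hk)
  have hinv : ∀ b ∈ N, f * b * f⁻¹ ∈ N := by
    rintro _ ⟨x, hx, k, hk, rfl⟩
    exact ⟨f * x * f⁻¹, hXn f hfC x hx, f * k * f⁻¹, conj_mem_of_normalizer (h.C_le_normK hp) hfC hk, by group⟩
  rcases irred h hp hf hKN hNQ hinv with e | e
  · exfalso
    -- every element of `Q_p` is in `K_p`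
    have hall : ∀ x ∈ Q U C p, x ∈ K U p := by
      intro x hx
      have hy : f * x * f⁻¹ * x⁻¹ ∈ K U p := by
        rw [← e]
        refine ⟨f * x * f⁻¹ * x⁻¹, ⟨?_, ?_⟩, 1, one_mem _, by simp⟩
        · have h1 : x * f⁻¹ * x⁻¹ ∈ oddGen (C p) :=
            conj_mem_of_normalizer (le_normalizer_oddGen (C p)) (hQC hx)
              (inv_mem (mem_oddGen hfC hf.odd))
          have e1 : f * x * f⁻¹ * x⁻¹ = f * (x * f⁻¹ * x⁻¹) := by group
          rw [e1]
          exact mul_mem (mem_oddGen hfC hf.odd) h1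
        · exact mul_mem (conj_mem_of_normalizer (h.C_le_normQ hp) hfC hx) ((Q U C p).inv_mem hx)
      set y := f * x * f⁻¹ * x⁻¹ with hydef
      have hxy : x = y⁻¹ * (f * x * f⁻¹) := by rw [hydef]; group
      by_contra hxK
      let B : Subgroup G := U p ⊓ centralizer ({x} : Set G)
      have hpB : p ∈ B := ⟨h.V_le p hp hp.1, mem_centralizer_singleton_iff.mpr (h.c_comm hp (hQC hx)).symm⟩
      have hBinv : ∀ b ∈ B, f * b * f⁻¹ ∈ B := by
        intro b hb
        have hbU : f * b * f⁻¹ ∈ U p := h.conj_memU hp hfC hb.1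
        have hbx : b * x = x * b := mem_centralizer_singleton_iff.mp hb.2
        refine ⟨hbU, mem_centralizer_singleton_iff.mpr ?_⟩
        have hyb := K_comm hy hbU
        -- `f b f⁻¹ * x = x * f b f⁻¹`
        have hyb' : (f * b * f⁻¹) * y⁻¹ = y⁻¹ * (f * b * f⁻¹) := (show Commute (f * b * f⁻¹) y from hyb).inv_right.eq
        calc f * b * f⁻¹ * x = (f * b * f⁻¹) * (y⁻¹ * (f * x * f⁻¹)) := by rw [← hxy]
          _ = ((f * b * f⁻¹) * y⁻¹) * (f * x * f⁻¹) := by group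
          _ = (y⁻¹ * (f * b * f⁻¹)) * (f * x * f⁻¹) := by rw [hyb']
          _ = y⁻¹ * (f * (b * x) * f⁻¹) := by group
          _ = y⁻¹ * (f * (x * b) * f⁻¹) := by rw [hbx]
          _ = (y⁻¹ * (f * x * f⁻¹)) * (f * b * f⁻¹) := by group
          _ = x * (f * b * f⁻¹) := by rw [← hxy]
      rcases hf.irred h hp (B := B) inf_le_left hpB hBinv with hB | hB
      · -- `U_p` has at most four elements
        obtain ⟨u0, hu0, hu0x⟩ : ∃ u ∈ U p, u * x ≠ x * u := by
          by_contra hcon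
          push Not at hcon
          exact hxK (mem_centralizer_iff.mpr hcon)
        have hxu : ∀ u ∈ U p, x * u * x⁻¹ = u ∨ x * u * x⁻¹ = p * u := ((h.mem_Q_iff hp).mp hx).2
        have h0 : x * u0 * x⁻¹ = p * u0 := by
          rcases hxu u0 hu0 with e | e
          · exact absurd (mul_inv_eq_iff_eq_mul.mp e).symm hu0x
          · exact e
        have hfour : (U p : Set G) ⊆ (({1, p, u0, p * u0} : Finset G) : Set G) := by
          classical
          intro u hu
          simp only [Finset.coe_insert, Finset.coe_singleton, Set.mem_insert_iff, Set.mem_singleton_iff]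
          rcases hxu u hu with e | e
          · rcases hB u ⟨hu, mem_centralizer_singleton_iff.mpr (mul_inv_eq_iff_eq_mul.mp e).symm⟩ with e' | e'
            · exact Or.inl e'
            · exact Or.inr (Or.inl e')
          · have hm : u * u0 ∈ B := by
              refine ⟨mul_mem hu hu0, mem_centralizer_singleton_iff.mpr ?_⟩
              have hup : Commute u p := h.commU hp hu (h.V_le p hp hp.1)
              have e1 : x * (u * u0) * x⁻¹ = u * u0 := by
                calc x * (u * u0) * x⁻¹ = (x * u * x⁻¹) * (x * u0 * x⁻¹) := by group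
                  _ = p * u * (p * u0) := by rw [e, h0]
                  _ = p * (u * p) * u0 := by group
                  _ = p * (p * u) * u0 := by rw [hup.eq]
                  _ = (p * p) * (u * u0) := by group
                  _ = u * u0 := by rw [h.pp hp, one_mul]
              exact (mul_inv_eq_iff_eq_mul.mp e1).symm
            have hu00 := h.sqU p hp u0 hu0
            rcases hB _ hm with e' | e'
            · right; right; left
              calc u = (u * u0) * u0⁻¹ := by group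
                _ = u0 := by rw [e', one_mul, inv_eq_of_mul_eq_one_left hu00]
            · right; right; right
              calc u = (u * u0) * u0⁻¹ := by group
                _ = p * u0 := by rw [e', inv_eq_of_mul_eq_one_left hu00]
        have h32 := h.cardU p hp
        have h4 : Nat.card (U p) ≤ 4 := by
          classical
          calc Nat.card (U p) = (U p : Set G).ncard := rfl
            _ ≤ (({1, p, u0, p * u0} : Finset G) : Set G).ncard := Set.ncard_le_ncard hfour (Set.toFinite _)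
            _ = ({1, p, u0, p * u0} : Finset G).card := Set.ncard_coe_finset _
            _ ≤ 4 := Finset.card_le_four
        omega
      · apply hxK
        rw [mem_centralizer_iff]
        intro u hu
        have : u ∈ B := by rw [hB]; exact hu
        exact mem_centralizer_singleton_iff.mp this.2
    have h16 := relIndex_K h hp
    rw [Subgroup.relIndex_eq_one.mpr hall] at h16
    omega
  · have : c ∈ N := by rw [e]; exact hc
    obtain ⟨x, hx, k, hk, e⟩ := this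
    exact ⟨x, hx.1, hx.2, k, hk, e⟩

/-! ### `K_p ⊓ K_q = E R0_p` -/

theorem exists_decomp (h : Tri V U C) (hp : Pt V p) {f d : G} (hf : IsF U C p f) (hd : d ∈ K U p) :
    ∃ u ∈ U p, f * (d * u) * f⁻¹ = d * u := by
  refine exists_coset_fixed (h.cardU p hp) (pow_five h hp hf) (fun u hu => h.conj_memU hp hf.mem hu) ?_
  obtain ⟨u, hu, e⟩ := exists_u h hp hd (mem_oddGen hf.mem hf.odd)
  rw [e, K_comm hd hu, inv_mul_cancel_left]
  exact hu

theorem D_eq (h : Tri V U C) (hp : Pt V p) (hq : Pt V q) (hpq : p ≠ q) {d : G} (hdp : d ∈ K U p)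
    (hdq : d ∈ K U q) : ∃ e ∈ U p ⊓ U q, ∃ r ∈ R0 U C p, d = e * r := by
  obtain ⟨f, hf⟩ := exists_isF h hp
  have hfC := hf.mem
  have hQC : Q U C p ≤ C p := Tri.kst_le _ _ _
  obtain ⟨u, hu, hr⟩ := exists_decomp h hp hf hdp
  set r := d * u with hrdef
  have hrK : r ∈ K U p := mul_mem hdp (h.U_le_K hp hu)
  have hfr : f * r = r * f := mul_inv_eq_iff_eq_mul.mp hr
  -- the subgroup `W1`
  have hR0n : ∀ c ∈ C p, ∀ x ∈ R0 U C p, c * x * c⁻¹ ∈ R0 U C p := fun c hc x hx => R0_norm h hp hc hx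
  let W1 : Subgroup G :=
    { carrier := {x | x ∈ Q U C p ∧ r * x * r⁻¹ * x⁻¹ ∈ R0 U C p}
      one_mem' := ⟨one_mem _, by simp⟩
      mul_mem' := by
        rintro x y ⟨hx, hx'⟩ ⟨hy, hy'⟩
        refine ⟨mul_mem hx hy, ?_⟩
        have e : r * (x * y) * r⁻¹ * (x * y)⁻¹ = (r * x * r⁻¹ * x⁻¹) * (x * (r * y * r⁻¹ * y⁻¹) * x⁻¹) := by group
        rw [e]
        exact mul_mem hx' (hR0n x (hQC hx) _ hy')
      inv_mem' := by
        rintro x ⟨hx, hx'⟩
        refine ⟨inv_mem hx, ?_⟩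
        have e : r * x⁻¹ * r⁻¹ * x⁻¹⁻¹ = x⁻¹ * (r * x * r⁻¹ * x⁻¹)⁻¹ * x⁻¹⁻¹ := by group
        rw [e]
        exact hR0n x⁻¹ (inv_mem (hQC hx)) _ (inv_mem hx') }
  have hKW : K U p ≤ W1 := fun k hk => ⟨h.K_le_Q hp hk, comm_mem_R0 h hp hrK hk⟩
  have hWQ : W1 ≤ Q U C p := fun x hx => hx.1
  have hinv : ∀ x ∈ W1, f * x * f⁻¹ ∈ W1 := by
    rintro x ⟨hx, hx'⟩
    refine ⟨conj_mem_of_normalizer (h.C_le_normQ hp) hfC hx, ?_⟩
    have e : r * (f * x * f⁻¹) * r⁻¹ * (f * x * f⁻¹)⁻¹ = f * (r * x * r⁻¹ * x⁻¹) * f⁻¹ := by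
      have hrf : r⁻¹ * f = f * r⁻¹ := (show Commute f r from hfr).symm.inv_left.eq
      calc r * (f * x * f⁻¹) * r⁻¹ * (f * x * f⁻¹)⁻¹ = (r * f) * x * (f⁻¹ * r⁻¹ * f) * x⁻¹ * f⁻¹ := by group
        _ = (f * r) * x * (f⁻¹ * (r⁻¹ * f)) * x⁻¹ * f⁻¹ := by rw [hfr]; group
        _ = (f * r) * x * (f⁻¹ * (f * r⁻¹)) * x⁻¹ * f⁻¹ := by rw [hrf]
        _ = _ := by group
    rw [e]
    exact hR0n f hfC _ hx'
  have hW : W1 = Q U C p := by
    rcases irred h hp hf hKW hWQ hinv with e | e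
    · exfalso
      obtain ⟨a, ha, b, hb, hab⟩ := exists_mover h hp hq hpq
      have hda : d * a = a * d := (K_comm hdq ha.1).symm
      have haW : a ∈ W1 := by
        refine ⟨ha.2, ?_⟩
        have hau := ((h.mem_Q_iff hp).mp ha.2).2 u hu
        have huu := h.sqU p hp u hu
        -- `[r, a] = d (u a u⁻¹ a⁻¹) d⁻¹ [d, a]`
        have e2 : r * a * r⁻¹ * a⁻¹ = d * (u * (a * u⁻¹ * a⁻¹)) * d⁻¹ := by
          have hda' : a * d⁻¹ = d⁻¹ * a := (show Commute d a from hda).symm.inv_right.eq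
          calc r * a * r⁻¹ * a⁻¹ = d * u * a * u⁻¹ * (d⁻¹ * a⁻¹) := by rw [hrdef]; group
            _ = d * u * a * u⁻¹ * (a * d)⁻¹ := by group
            _ = d * u * a * u⁻¹ * (d * a)⁻¹ := by rw [hda]
            _ = _ := by group
        rw [e2]
        have hp0 := p_mem_R0 h hp
        have h3 : u * (a * u⁻¹ * a⁻¹) ∈ R0 U C p := by
          have e3 : a * u⁻¹ * a⁻¹ = (a * u * a⁻¹)⁻¹ := by group
          rw [e3]
          rcases hau with e4 | e4
          · rw [e4, mul_inv_cancel]; exact one_mem _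
          · rw [e4, mul_inv_rev, mul_inv_cancel_left]; exact inv_mem hp0
        exact hR0n d (h.K_le_C hp hp hdp) _ h3
      rw [e] at haW
      have := K_comm haW hb
      have h5 : p * b = b := by rw [← hab, ← this, mul_inv_cancel_right]
      exact hp.2 (by simpa using h5)
    · exact e
  -- `r` centralises `x⁻¹ f x`
  have hcen : ∀ x ∈ Q U C p, (x⁻¹ * f * x) * r = r * (x⁻¹ * f * x) := by
    intro x hx
    have hxW : x ∈ W1 := by rw [hW]; exact hx
    have h1 := (mem_R0.mp hxW.2).2 f (mem_oddGen hfC hf.odd)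
    -- f commutes with `r x r⁻¹ x⁻¹` and `r`, hence with `x r⁻¹ x⁻¹`
    have c1 : Commute f (r * x * r⁻¹ * x⁻¹) := h1
    have c2 : Commute f r := hfr
    have c3 : Commute f (r⁻¹ * (r * x * r⁻¹ * x⁻¹)) := c2.inv_right.mul_right c1
    have e3 : r⁻¹ * (r * x * r⁻¹ * x⁻¹) = x * r⁻¹ * x⁻¹ := by group
    rw [e3] at c3
    have c4 : Commute (x⁻¹ * f * x) r⁻¹ := by
      show (x⁻¹ * f * x) * r⁻¹ = r⁻¹ * (x⁻¹ * f * x)
      calc (x⁻¹ * f * x) * r⁻¹ = x⁻¹ * (f * (x * r⁻¹ * x⁻¹)) * x := by group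
        _ = x⁻¹ * ((x * r⁻¹ * x⁻¹) * f) * x := by rw [c3.eq]
        _ = r⁻¹ * (x⁻¹ * f * x) := by group
    have := c4.inv_right
    rwa [inv_inv] at this
  have hrR : r ∈ R0 U C p := by
    rw [mem_R0]
    refine ⟨hrK, fun x hx => ?_⟩
    have hle : oddGen (C p) ≤ centralizer ({r} : Set G) := by
      unfold oddGen
      rw [closure_le]
      rintro g ⟨hg, ho⟩
      obtain ⟨y, hy, k, rfl⟩ := exists_conj_of_odd h hp hf hg ho
      have h1 := hcen y⁻¹ ((Q U C p).inv_mem hy)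
      rw [inv_inv] at h1
      have h2 : y * f ^ k * y⁻¹ = (y * f * y⁻¹) ^ k := by rw [conj_pow]
      rw [h2]
      exact mem_centralizer_singleton_iff.mpr ((show Commute (y * f * y⁻¹) r from h1).pow_left k).eq
    exact mem_centralizer_singleton_iff.mp (hle hx)
  refine ⟨u⁻¹, ?_, r, hrR, ?_⟩
  · have h1 : u⁻¹ ∈ K U q := by
      have h2 : u⁻¹ = r⁻¹ * d := by rw [hrdef]; group
      rw [h2]
      exact mul_mem (inv_mem (R0_le_K h hp hq hpq hrR)) hdq
    have h3 : u⁻¹ ∈ K U q ⊓ U p := ⟨h1, (U p).inv_mem hu⟩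
    rw [K_inf_U h hq hp hpq.symm] at h3
    exact ⟨h3.2, h3.1⟩
  · rw [hrdef]
    calc d = d * u⁻¹ * u := by group
      _ = u⁻¹ * d * u := by rw [K_comm hdp (inv_mem hu)]
      _ = _ := by group

/-! ### `R0_p = ⟨p⟩` -/

theorem exists_invol {k : G} (R : Subgroup G) (hR : IsPGroup 2 R) (hk : k ∈ R) (hk1 : k ≠ 1) :
    ∃ n : ℕ, k ^ n ≠ 1 ∧ k ^ n * k ^ n = 1 := by
  haveI : Fact (Nat.Prime 2) := ⟨Nat.prime_two⟩
  have hR' := IsPGroup.iff_orderOf.mp hR ⟨k, hk⟩
  obtain ⟨n, hn⟩ := hR'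
  rw [orderOf_mk] at hn
  rcases n with _ | n
  · rw [pow_zero, orderOf_eq_one_iff] at hn
    exact absurd hn hk1
  · refine ⟨2 ^ n, fun e => ?_, ?_⟩
    · have h1 := orderOf_dvd_of_pow_eq_one e
      rw [hn] at h1
      have h2 := Nat.le_of_dvd (by positivity) h1
      rw [pow_succ] at h2
      have h3 : 0 < 2 ^ n := by positivity
      omega
    · rw [← pow_add, show 2 ^ n + 2 ^ n = 2 ^ (n + 1) by rw [pow_succ]; omega, ← hn, pow_orderOf_eq_one]

theorem R0_inf (h : Tri V U C) (hp : Pt V p) (hq : Pt V q) (hpq : p ≠ q) {k : G} (hk : k ∈ R0 U C p)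
    (hk' : k ∈ R0 U C q) : k = 1 := by
  by_contra hk1
  obtain ⟨n, hn1, hn2⟩ := exists_invol (K U p) (isPGroup_K h hp) hk.1 hk1
  have hr := pow_mem hk n
  have hr' := pow_mem hk' n
  refine hn1 (Kill.kill h hp hq hpq hn2 ?_ ?_)
  · intro x hx
    rw [mem_centralizer_singleton_iff]
    exact (mem_R0.mp hr).2 x hx
  · intro x hx
    rw [mem_centralizer_singleton_iff]
    exact (mem_R0.mp hr').2 x hx

theorem mem_V (h : Tri V U C) (hp : Pt V p) (hq : Pt V q) (hpq : p ≠ q) {v : G} (hv : v ∈ V) :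
    v = 1 ∨ v = p ∨ v = q ∨ v = p * q := by
  classical
  obtain ⟨h1, h2, h3⟩ := h.third hp hq hpq
  have hsub : (({1, p, q, p * q} : Finset G) : Set G) ⊆ (V : Set G) := by
    intro x hx
    simp only [Finset.coe_insert, Finset.coe_singleton, Set.mem_insert_iff, Set.mem_singleton_iff] at hx
    rcases hx with rfl | rfl | rfl | rfl
    · exact one_mem V
    · exact hp.1
    · exact hq.1
    · exact h1.1
  have hc : ({1, p, q, p * q} : Finset G).card = 4 := by
    rw [Finset.card_eq_succ]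
    refine ⟨1, {p, q, p * q}, ?_, rfl, Finset.card_eq_three.mpr ⟨p, q, p * q, hpq, h2.symm, h3.symm, rfl⟩⟩
    simp only [Finset.mem_insert, Finset.mem_singleton, not_or]
    exact ⟨hp.2.symm, hq.2.symm, h1.2.symm⟩
  have heq : (({1, p, q, p * q} : Finset G) : Set G) = (V : Set G) := by
    refine Set.eq_of_subset_of_ncard_le hsub ?_ (Set.toFinite _)
    rw [Set.ncard_coe_finset, hc]
    exact le_of_eq h.cardV
  have hv' : v ∈ (V : Set G) := hv
  rw [← heq] at hv'
  simpa only [Finset.coe_insert, Finset.coe_singleton, Set.mem_insert_iff, Set.mem_singleton_iff] using hv'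

theorem eq_one_or_of_R0 (h : Tri V U C) (hp : Pt V p) (hq : Pt V q) (hpq : p ≠ q) {k : G} (hk : k ∈ R0 U C p) :
    k = 1 ∨ k = p := by
  have hkp := (mem_R0.mp hk).1
  have hkq := R0_le_K h hp hq hpq hk
  obtain ⟨e, he, r, hr, rfl⟩ := D_eq h hq hp hpq.symm hkq hkp
  obtain ⟨c, hc, hcV, e', he', hce'⟩ := exists_move_E h hp hq hpq
  obtain ⟨x, hxX, hxQ, k', hk', rfl⟩ := exists_X h hp hc
  have hxV : x ∈ centralizer (V : Set G) := by
    have : x = (x * k') * k'⁻¹ := by group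
    rw [this]
    exact mul_mem hcV (inv_mem (h.K_le_centV hp hk'))
  have hxe' : x * e' * x⁻¹ = p * e' := by
    rw [← hce']
    have := K_comm hk' he'.1
    calc x * e' * x⁻¹ = x * (e' * k') * k'⁻¹ * x⁻¹ := by group
      _ = x * (k' * e') * k'⁻¹ * x⁻¹ := by rw [this]
      _ = _ := by group
  have hxC : x ∈ C q := h.centV_le hq hxV
  have hxr : x * r * x⁻¹ ∈ R0 U C q := R0_norm h hq hxC hr
  have hxk : x * (e * r) = (e * r) * x := (mem_R0.mp hk).2 x hxX
  have h1 : e⁻¹ * (x * e * x⁻¹) ∈ R0 U C q := by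
    have : e⁻¹ * (x * e * x⁻¹) = r * (x * r * x⁻¹)⁻¹ := by
      have h2 : x * e * x⁻¹ = (e * r) * (x * r * x⁻¹)⁻¹ := by
        calc x * e * x⁻¹ = (x * (e * r)) * x⁻¹ * (x * r * x⁻¹)⁻¹ := by group
          _ = ((e * r) * x) * x⁻¹ * (x * r * x⁻¹)⁻¹ := by rw [hxk]
          _ = _ := by group
      rw [h2]
      group
    rw [this]
    exact mul_mem hr (inv_mem hxr)
  have hxe : x * e * x⁻¹ = e := by
    rcases ((h.mem_Q_iff hp).mp hxQ).2 e he.2 with h2 | h2
    · exact h2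
    · exfalso
      have h3 : e⁻¹ * (x * e * x⁻¹) = p := by
        rw [h2, h.commU hp (h.V_le p hp hp.1) he.2, inv_mul_cancel_left]
      rw [h3] at h1
      rcases R0_inf_U h hq h1 (h.V_le q hq hp.1) with h4 | h4
      · exact hp.2 h4
      · exact hpq h4
  -- `e ∈ V`
  have heV : e ∈ V := by
    have hle : V ≤ (U p ⊓ U q) ⊓ centralizer ({x} : Set G) := by
      intro v hv
      exact ⟨⟨h.V_le p hp hv, h.V_le q hq hv⟩, mem_centralizer_singleton_iff.mpr (mem_centralizer_iff.mp hxV v hv)⟩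
    have h8 := card_E h hp hq hpq
    have hlt : (U p ⊓ U q) ⊓ centralizer ({x} : Set G) ≠ U p ⊓ U q := by
      intro heq
      have : e' ∈ (U p ⊓ U q) ⊓ centralizer ({x} : Set G) := by rw [heq]; exact he'
      have h5 := mem_centralizer_singleton_iff.mp this.2
      rw [← h5, mul_inv_cancel_right] at hxe'
      exact hp.2 (by simpa using hxe')
    have hdvd := card_dvd_of_le (inf_le_left : (U p ⊓ U q) ⊓ centralizer ({x} : Set G) ≤ U p ⊓ U q)
    have hge := Nat.le_of_dvd Nat.card_pos (card_dvd_of_le hle)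
    rw [h.cardV] at hge
    rw [h8] at hdvd
    have hne : Nat.card ↥((U p ⊓ U q) ⊓ centralizer ({x} : Set G)) ≠ 8 := by
      intro h9
      exact hlt (eq_of_le_of_card_ge inf_le_left (by rw [h9, h8]))
    have h4 : Nat.card ↥((U p ⊓ U q) ⊓ centralizer ({x} : Set G)) = 4 := by
      have h10 := Nat.le_of_dvd (by norm_num) hdvd
      interval_cases hh : Nat.card ↥((U p ⊓ U q) ⊓ centralizer ({x} : Set G)) <;> omega
    have hVeq := eq_of_le_of_card_ge hle (by rw [h4, h.cardV])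
    rw [hVeq]
    exact ⟨⟨he.2, he.1⟩, mem_centralizer_singleton_iff.mpr (mul_inv_eq_iff_eq_mul.mp hxe).symm⟩
  have hpp := h.pp hp
  have hqq := h.pp hq
  have hp0 := p_mem_R0 h hp
  have hq0 := p_mem_R0 h hq
  rcases mem_V h hp hq hpq heV with rfl | rfl | rfl | rfl
  · left
    exact R0_inf h hp hq hpq hk (by rw [one_mul]; exact hr)
  · right
    have h5 : r = 1 := R0_inf h hp hq hpq (by
      have : r = e * (e * r) := by rw [← mul_assoc, hpp, one_mul]
      rw [this]; exact mul_mem hp0 hk) hr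
    rw [h5, mul_one]
  · left
    exact R0_inf h hp hq hpq hk (mul_mem hq0 hr)
  · right
    have h5 : q * r = 1 := R0_inf h hp hq hpq (by
      have : q * r = p * (p * q * r) := by
        calc q * r = (p * p) * (q * r) := by rw [hpp, one_mul]
          _ = _ := by group
      rw [this]; exact mul_mem hp0 hk) (mul_mem hq0 hr)
    rw [mul_assoc, h5, mul_one]

/-- another point -/
theorem exists_ne (h : Tri V U C) (hp : Pt V p) : ∃ q, Pt V q ∧ p ≠ q := by
  classical
  by_contra hcon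
  push Not at hcon
  have hsub : (V : Set G) ⊆ (({1, p} : Finset G) : Set G) := by
    intro v hv
    simp only [Finset.coe_insert, Finset.coe_singleton, Set.mem_insert_iff, Set.mem_singleton_iff]
    by_cases h1 : v = 1
    · exact Or.inl h1
    · exact Or.inr (hcon v ⟨hv, h1⟩).symm
  have h1 := Set.ncard_le_ncard hsub (Set.toFinite _)
  rw [Set.ncard_coe_finset] at h1
  have h2 : (V : Set G).ncard = 4 := h.cardV
  have h3 : ({1, p} : Finset G).card ≤ 2 := Finset.card_le_two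
  omega

/-! ### the results -/

/-- (A10) `C_{K_p}(X_p) = ⟨p⟩` -/
theorem eq_of_cent_X (h : Tri V U C) (hp : Pt V p) {k : G} (hk : k ∈ K U p)
    (hc : ∀ x ∈ oddGen (C p), x * k = k * x) : k = 1 ∨ k = p := by
  obtain ⟨q, hq, hpq⟩ := exists_ne h hp
  exact eq_one_or_of_R0 h hp hq hpq (mem_R0.mpr ⟨hk, hc⟩)

/-- (A10) squares of elements of `K_p` -/
theorem sq_K (h : Tri V U C) (hp : Pt V p) {k : G} (hk : k ∈ K U p) : k * k = 1 ∨ k * k = p := by
  obtain ⟨q, hq, hpq⟩ := exists_ne h hp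
  exact eq_one_or_of_R0 h hp hq hpq (sq_mem_R0 h hp hk)

theorem K_inf_K (h : Tri V U C) (hp : Pt V p) (hq : Pt V q) (hpq : p ≠ q) : K U p ⊓ K U q = U p ⊓ U q := by
  apply le_antisymm
  · rintro d ⟨hd, hd'⟩
    obtain ⟨e, he, r, hr, rfl⟩ := D_eq h hp hq hpq hd hd'
    refine mul_mem he ?_
    rcases eq_one_or_of_R0 h hp hq hpq hr with rfl | rfl
    · exact one_mem _
    · exact ⟨h.V_le _ hp hp.1, h.V_le q hq hp.1⟩
  · exact inf_le_inf (h.U_le_K hp) (h.U_le_K hq)

/-- one step: if `N ≤ K_p ⊓ Q_q` does not centralise `U_q`, then a subgroup of index 2 centralises twice as much -/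
theorem step (h : Tri V U C) (hq : Pt V q) {N : Subgroup G} (hN : N ≤ Q U C q) (hNK : ¬ N ≤ K U q) :
    ∃ N' ≤ N, Nat.card N ≤ 2 * Nat.card N' ∧
      2 * Nat.card ↥(U q ⊓ centralizer (N : Set G)) ≤ Nat.card ↥(U q ⊓ centralizer (N' : Set G)) := by
  obtain ⟨a, haU, haN⟩ : ∃ a ∈ U q, a ∉ centralizer (N : Set G) := by
    by_contra hcon
    push Not at hcon
    apply hNK
    intro x hx
    rw [mem_centralizer_iff]
    intro u hu
    exact (mem_centralizer_iff.mp (hcon u hu) x hx).symm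
  refine ⟨N ⊓ centralizer ({a} : Set G), inf_le_left, ?_, ?_⟩
  · refine card_le_two_mul inf_le_left fun x hx y hy hxN hyN => mem_inf.mpr ⟨N.mul_mem (N.inv_mem hx) hy, ?_⟩
    have key : ∀ x ∈ N, x ∉ N ⊓ centralizer ({a} : Set G) → x * a * x⁻¹ = q * a := by
      intro x hx hxN
      rcases ((h.mem_Q_iff hq).mp (hN hx)).2 a haU with e | e
      · exact absurd ⟨hx, mem_centralizer_singleton_iff.mpr (mul_inv_eq_iff_eq_mul.mp e)⟩ hxN
      · exact e
    have e1 := key x hx hxN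
    have e2 := key y hy hyN
    rw [mem_centralizer_singleton_iff]
    have e3 : x⁻¹ * (q * a) * x = a := by rw [← e1]; group
    calc x⁻¹ * y * a = x⁻¹ * (y * a * y⁻¹) * y := by group
      _ = x⁻¹ * (q * a) * y := by rw [e2]
      _ = (x⁻¹ * (q * a) * x) * (x⁻¹ * y) := by group
      _ = a * (x⁻¹ * y) := by rw [e3]
  · have hle : U q ⊓ centralizer (N : Set G) ≤ U q ⊓ centralizer ((N ⊓ centralizer ({a} : Set G) : Subgroup G) : Set G) :=
      inf_le_inf_left _ (centralizer_le (fun x hx => hx.1))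
    have hne : U q ⊓ centralizer (N : Set G) ≠ U q ⊓ centralizer ((N ⊓ centralizer ({a} : Set G) : Subgroup G) : Set G) := by
      intro heq
      have ha : a ∈ U q ⊓ centralizer ((N ⊓ centralizer ({a} : Set G) : Subgroup G) : Set G) := by
        refine ⟨haU, mem_centralizer_iff.mpr fun x hx => ?_⟩
        exact mem_centralizer_singleton_iff.mp hx.2
      rw [← heq] at ha
      exact haN ha.2
    obtain ⟨m, hm⟩ := card_dvd_of_le hle
    have hpos : 0 < Nat.card ↥(U q ⊓ centralizer (N : Set G)) := Nat.card_pos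
    have hpos' : 0 < Nat.card ↥(U q ⊓ centralizer ((N ⊓ centralizer ({a} : Set G) : Subgroup G) : Set G)) := Nat.card_pos
    have hm1 : m ≠ 1 := by
      intro h1
      rw [h1, mul_one] at hm
      exact hne (eq_of_le_of_card_ge hle (le_of_eq hm))
    have hm0 : m ≠ 0 := by
      rintro rfl
      rw [mul_zero] at hm
      omega
    have hm2 : 2 ≤ m := by omega
    rw [hm, mul_comm]
    exact Nat.mul_le_mul_left _ hm2

theorem card_K_inf_Q (h : Tri V U C) (hp : Pt V p) (hq : Pt V q) (hpq : p ≠ q) :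
    Nat.card ↥(K U p ⊓ Q U C q) ≤ 32 := by
  have h8 := card_E h hp hq hpq
  -- subgroups in `K_p ⊓ K_q` have at most 8 elements
  have hend : ∀ N : Subgroup G, N ≤ K U p → N ≤ K U q → Nat.card N ≤ 8 := by
    intro N h1 h2
    have h3 : N ≤ U p ⊓ U q := by
      rw [← K_inf_K h hp hq hpq]
      exact le_inf h1 h2
    have := Nat.le_of_dvd Nat.card_pos (card_dvd_of_le h3)
    omega
  set N0 := K U p ⊓ Q U C q with hN0
  by_cases c0 : N0 ≤ K U q
  · have := hend N0 inf_le_left c0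
    omega
  obtain ⟨N1, hN1, h1, h1'⟩ := step h hq (N := N0) inf_le_right c0
  by_cases c1 : N1 ≤ K U q
  · have := hend N1 (hN1.trans inf_le_left) c1
    omega
  obtain ⟨N2, hN2, h2, h2'⟩ := step h hq (N := N1) (hN1.trans inf_le_right) c1
  have hc0 : 8 ≤ Nat.card ↥(U q ⊓ centralizer (N0 : Set G)) := by
    have hle : U p ⊓ U q ≤ U q ⊓ centralizer (N0 : Set G) := by
      intro e he
      refine ⟨he.2, mem_centralizer_iff.mpr fun x hx => ?_⟩
      exact (K_comm hx.1 he.1).symm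
    have := Nat.le_of_dvd Nat.card_pos (card_dvd_of_le hle)
    omega
  have hc2 : N2 ≤ K U q := by
    have h32 : 32 ≤ Nat.card ↥(U q ⊓ centralizer (N2 : Set G)) := by omega
    have heq : U q ⊓ centralizer (N2 : Set G) = U q := eq_of_le_of_card_ge inf_le_left (by rw [h.cardU q hq]; exact h32)
    intro x hx
    rw [mem_centralizer_iff]
    intro u hu
    have : u ∈ U q ⊓ centralizer (N2 : Set G) := by rw [heq]; exact hu
    exact (mem_centralizer_iff.mp this.2 x hx).symm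
  have := hend N2 ((hN2.trans hN1).trans inf_le_left) hc2
  omega

theorem card_K (h : Tri V U C) (hp : Pt V p) : Nat.card ↥(K U p) = 32 ∨ Nat.card ↥(K U p) = 64 := by
  obtain ⟨q, hq, hpq⟩ := exists_ne h hp
  have h1 := card_K_inf_Q h hp hq hpq
  have h2 : Nat.card ↥(K U p) ≤ 2 * Nat.card ↥(K U p ⊓ Q U C q) := by
    refine card_le_two_mul inf_le_left fun x hx y hy hxN hyN =>
      mem_inf.mpr ⟨(K U p).mul_mem ((K U p).inv_mem hx) hy, ?_⟩
    have hsq : ∀ k ∈ K U p, k * k ∈ Q U C q := by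
      intro k hk
      rcases sq_K h hp hk with e | e
      · rw [e]; exact one_mem _
      · rw [e]; exact h.K_le_Q hq (h.U_le_K hq (h.V_le q hq hp.1))
    have hm : x⁻¹ * y ∈ K U p := (K U p).mul_mem ((K U p).inv_mem hx) hy
    obtain ⟨n, hn⟩ := isPGroup_K h hp ⟨x⁻¹ * y, hm⟩
    have hn' : (x⁻¹ * y) ^ 2 ^ n = 1 := congrArg Subtype.val hn
    refine mul_mem_Q h hq (h.K_le_C hq hp ((K U p).inv_mem hx)) (h.K_le_C hq hp hy) (hsq _ ((K U p).inv_mem hx)) (hsq _ hy) ?_ ?_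
      (n := n) (by rw [hn']; exact one_mem _)
    · intro hc
      exact hxN ⟨hx, by simpa using (Q U C q).inv_mem hc⟩
    · intro hc
      exact hyN ⟨hy, hc⟩
  obtain ⟨m, hm⟩ := card_dvd_of_le (h.U_le_K hp)
  rw [h.cardU p hp] at hm
  have hpos : 0 < Nat.card ↥(K U p) := Nat.card_pos
  have : m = 1 ∨ m = 2 := by
    rcases Nat.eq_zero_or_pos m with rfl | h0
    · omega
    · omega
  rcases this with rfl | rfl
  · left; omega
  · right; omega

end Cfsg.Agent.OddCyclic.EO.TF.TriTen
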