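import Mathlib
import Cfsg.Agent.OddCyclic.EO.TF.TriB2

/-!
# Case B of the Tits end, (B3'): the subgroup `N` of index 2 in `C_p`
-/

set_option autoImplicit false
set_option linter.style.haveILetI false
set_option linter.unusedSectionVars false

namespace Cfsg.Agent.OddCyclic.EO.TF.TriB

open Cfsg.Agent.Classification.TitsFin

open Subgroup Cfsg Cfsg.Agent.ZN Cfsg.Agent.MinSimple.Geo
open Cfsg.Agent.OddCyclic.EO.TF.Tri (Pt kst K Q cj_kst kst_le)
open Cfsg.Agent.OddCyclic.EO.TF.TriAct Cfsg.Agent.OddCyclic.EO.TF.TriQK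
open Cfsg.Agent.OddCyclic.EO.TF.TriTen Cfsg.Agent.Classification.TitsFin.TriBSec
open Cfsg.Agent.MinSimple.VModule (oddGen)
open Cfsg.Agent.ZN.Block (card_mul_relIndex' mul_mem_of_relIndex_two)

universe u

variable {G : Type u} [Group G] [Finite G] {V : Subgroup G} {U C : G → Subgroup G} {p q : G}

theorem U_le_Q (h : Tri V U C) (hp : Pt V p) : U p ≤ Q U C p := (h.U_le_K hp).trans (h.K_le_Q hp)

/-- an element of `Q_p ⊓ C_G(V)` of order 4 modulo `Q_q`, moving `E` -/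
theorem exists_x (h : Tri V U C) (hp : Pt V p) (hq : Pt V q) (hpq : p ≠ q) :
    ∃ x ∈ Q U C p, x ∈ centralizer (V : Set G) ∧ x * x ∉ Q U C q := by
  obtain ⟨c, hc, hcV, e, he, hce⟩ := exists_move_E h hp hq hpq
  have hep : e * p = p * e := h.commU hp he.1 (h.V_le p hp hp.1)
  -- an element of `Q_q` does not move `e` to `p e`
  have key : ∀ y ∈ Q U C q, y * e * y⁻¹ ≠ p * e := by
    intro y hy h1
    rcases ((h.mem_Q_iff hq).mp hy).2 e he.2 with h2 | h2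
    · rw [h2] at h1
      exact hp.2 (right_eq_mul.mp h1)
    · rw [h2] at h1
      exact hpq (mul_right_cancel h1).symm
  refine ⟨c, hc, hcV, fun hcc => ?_⟩
  have hcQ : c ∉ Q U C q := fun h1 => key c h1 hce
  obtain ⟨t, ht, htQ⟩ := h.exists_t hq hp hpq.symm
  have htt := h.sqU p hp t ht
  have htV := h.U_le_centV hp ht
  obtain ⟨n, hn⟩ := (isPGroup_centV h hp) ⟨c * t, mul_mem hcV htV⟩
  have hn' : (c * t) ^ 2 ^ n = 1 := congrArg Subtype.val hn
  have h1 : c * t ∈ Q U C q := mul_mem_Q h hq (h.centV_le hq hcV) (h.centV_le hq htV) hcc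
    (by rw [htt]; exact one_mem _) hcQ htQ (n := n) (by rw [hn']; exact one_mem _)
  refine key _ h1 ?_
  have hte : t * e = e * t := h.commU hp ht he.1
  calc c * t * e * (c * t)⁻¹ = c * (t * e) * t⁻¹ * c⁻¹ := by group
    _ = c * e * c⁻¹ := by rw [hte]; group
    _ = p * e := hce

/-- multipliers -/
def Mul (U C : G → Subgroup G) (p f c : G) (a : ℕ) : Prop := c ∈ C p ∧ c * f * c⁻¹ * (f ^ a)⁻¹ ∈ Q U C p

theorem Mul.mul (h : Tri V U C) (hp : Pt V p) {f c d : G} (hf : IsF U C p f) {a b : ℕ} (hc : Mul U C p f c a)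
    (hd : Mul U C p f d b) : Mul U C p f (c * d) (a * b) := by
  refine ⟨mul_mem hc.1 hd.1, ?_⟩
  -- `d f d⁻¹ = y f ^ b`, `c f c⁻¹ = z f ^ a`
  set y := d * f * d⁻¹ * (f ^ b)⁻¹ with hy
  set z := c * f * c⁻¹ * (f ^ a)⁻¹ with hz
  have h1 : c * y * c⁻¹ ∈ Q U C p := conj_mem_Q h hp hc.1 hd.2
  have h2 : ∀ n : ℕ, (z * f ^ a) ^ n * (f ^ (a * n))⁻¹ ∈ Q U C p := by
    intro n
    induction n with
    | zero => simp
    | succ n ih =>
      have h3 : f ^ (a * n) * z * (f ^ (a * n))⁻¹ ∈ Q U C p :=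
        conj_mem_Q h hp (pow_mem hf.mem _) hc.2
      have e : (z * f ^ a) ^ (n + 1) * (f ^ (a * (n + 1)))⁻¹ =
          ((z * f ^ a) ^ n * (f ^ (a * n))⁻¹) * (f ^ (a * n) * z * (f ^ (a * n))⁻¹) := by
        rw [pow_succ, mul_add, mul_one, pow_add]
        group
      rw [e]
      exact mul_mem ih h3
  have e1 : z * f ^ a = c * f * c⁻¹ := by rw [hz]; group
  have h3 := mul_mem h1 (h2 b)
  have e : c * y * c⁻¹ * ((z * f ^ a) ^ b * (f ^ (a * b))⁻¹) = c * d * f * (c * d)⁻¹ * (f ^ (a * b))⁻¹ := by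
    rw [e1, conj_pow, hy]
    group
  rwa [e] at h3

theorem Mul.congr (h : Tri V U C) (hp : Pt V p) {f c : G} (hf : IsF U C p f) {a b : ℕ} (hc : Mul U C p f c a)
    (hab : a % 5 = b % 5) : Mul U C p f c b := by
  have f5 := pow_five h hp hf
  have e : ∀ n : ℕ, f ^ n = f ^ (n % 5) := by
    intro n
    conv_lhs => rw [← Nat.div_add_mod n 5, pow_add, pow_mul, f5, one_pow, one_mul]
  refine ⟨hc.1, ?_⟩
  rw [e b, ← hab, ← e a]
  exact hc.2

theorem Mul.pow (h : Tri V U C) (hp : Pt V p) {f c : G} (hf : IsF U C p f) {a : ℕ} (hc : Mul U C p f c a)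
    (n : ℕ) : Mul U C p f (c ^ n) (a ^ n) := by
  induction n with
  | zero => exact ⟨by simp, by simp⟩
  | succ n ih =>
    rw [pow_succ, pow_succ]
    exact Mul.mul h hp hf ih hc

theorem exists_Mul (h : Tri V U C) (hp : Pt V p) {f c : G} (hf : IsF U C p f) (hc : c ∈ C p) :
    ∃ a, (a = 1 ∨ a = 2 ∨ a = 3 ∨ a = 4) ∧ Mul U C p f c a := by
  obtain ⟨k, h1, h2, h3⟩ := IsF.normal h hp hf hc
  exact ⟨k, by omega, hc, h3⟩

/-- `C(f mod Q_p) = ⟨f⟩ Q_p` -/
theorem cent_f (h : Tri V U C) (hp : Pt V p) {f c : G} (hf : IsF U C p f) (hc : Mul U C p f c 1) :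
    ∃ j : ℕ, f ^ j * c ∈ Q U C p := by
  have f5 := pow_five h hp hf
  obtain ⟨A, hAC, hQA, fA, hA⟩ := TriBO.exists_ext (A := Q U C p) (C := C p) (s := f) (kst_le _ _ _) hf.mem
    (n := 5) (by norm_num) (by rw [f5]; exact one_mem _) (fun a ha => conj_mem_Q h hp hf.mem ha)
  obtain ⟨a, m, hm, hn⟩ := Nat.exists_eq_pow_mul_and_not_dvd (n := orderOf c) (orderOf_pos c).ne' 2
    (by norm_num)
  have hmodd : Odd m := Nat.not_even_iff_odd.mp fun h1 => hm h1.two_dvd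
  -- the 2-part
  have h1 : c ^ m ∈ Q U C p := by
    have hc1 := Mul.pow h hp hf hc m
    rw [one_pow] at hc1
    refine IsF.mem_Q_of_comm h hp hf hc1.1 (n := a) ?_ ?_
    · rw [← pow_mul, mul_comm, ← hn, pow_orderOf_eq_one]; exact one_mem _
    · have := hc1.2
      rwa [pow_one] at this
  -- the odd part
  have h2 : c ^ 2 ^ a ∈ A := by
    have ho : Odd (orderOf (c ^ 2 ^ a)) := by
      have h3 : orderOf (c ^ 2 ^ a) = m := by
        rw [orderOf_pow, hn, Nat.gcd_eq_right (Dvd.intro _ rfl), Nat.mul_div_cancel_left _ (by positivity)]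
      rw [h3]; exact hmodd
    obtain ⟨k, -, hk⟩ := IsF.of_odd h hp hf (pow_mem hc.1 _) ho
    have h3 := mul_mem (hQA hk) (pow_mem fA k)
    rwa [inv_mul_cancel_right] at h3
  have h3 : c ∈ A := by
    have hcop : Nat.gcd m (2 ^ a) = 1 := Nat.Coprime.pow_right a (Nat.coprime_two_right.mpr hmodd)
    have e : (1 : ℤ) = m * Nat.gcdA m (2 ^ a) + (2 ^ a : ℕ) * Nat.gcdB m (2 ^ a) := by
      rw [← Nat.gcd_eq_gcd_ab, hcop]; rfl
    have e2 : c = (c ^ m) ^ (Nat.gcdA m (2 ^ a)) * (c ^ 2 ^ a) ^ (Nat.gcdB m (2 ^ a)) := by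
      conv_lhs => rw [← zpow_one c, e, zpow_add, zpow_mul, zpow_mul, zpow_natCast, zpow_natCast]
    rw [e2]
    exact mul_mem (zpow_mem (hQA h1) _) (zpow_mem h2 _)
  exact ((hA c).mp h3).2

/-- a 2-element with multiplier 1 is in `Q_p` -/
theorem mem_Q_of_Mul_one (h : Tri V U C) (hp : Pt V p) {f c : G} (hf : IsF U C p f) (hc : Mul U C p f c 1)
    {n : ℕ} (hn : c ^ 2 ^ n ∈ Q U C p) : c ∈ Q U C p := by
  refine IsF.mem_Q_of_comm h hp hf hc.1 hn ?_
  have := hc.2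
  rwa [pow_one] at this

/-- if `s ^ 4 = 1` and `s * s ∉ Q_p`, then the multiplier of `s` is 2 or 3 -/
theorem Mul_of_sq (h : Tri V U C) (hp : Pt V p) {f s : G} (hf : IsF U C p f) (hs : s ∈ C p) (s4 : s ^ 4 = 1)
    (hss : s * s ∉ Q U C p) : Mul U C p f s 2 ∨ Mul U C p f s 3 := by
  have h4 : s ^ 2 ^ 2 ∈ Q U C p := by
    rw [show 2 ^ 2 = 4 from rfl, s4]; exact one_mem _
  have h4' : (s * s) ^ 2 ^ 1 ∈ Q U C p := by
    rw [← pow_two, ← pow_mul, show 2 * 2 ^ 1 = 4 from rfl, s4]; exact one_mem _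
  obtain ⟨a, rfl | rfl | rfl | rfl, ha⟩ := exists_Mul h hp hf hs
  · exfalso
    have h1 := mem_Q_of_Mul_one h hp hf ha h4
    exact hss (mul_mem h1 h1)
  · exact Or.inl ha
  · exact Or.inr ha
  · exfalso
    have h1 := (Mul.mul h hp hf ha ha).congr h hp hf (b := 1) (by norm_num)
    exact hss (mem_Q_of_Mul_one h hp hf h1 h4')

theorem cover (h : Tri V U C) (hp : Pt V p) {f s : G} (hf : IsF U C p f) (hs : s ∈ C p) (s4 : s ^ 4 = 1)
    (hss : s * s ∉ Q U C p) {c : G} (hc : c ∈ C p) : ∃ i j : ℕ, f ^ j * s ^ i * c ∈ Q U C p := by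
  have key : ∃ i, Mul U C p f (s ^ i * c) 1 := by
    obtain ⟨a, ha, hca⟩ := exists_Mul h hp hf hc
    rcases Mul_of_sq h hp hf hs s4 hss with hs2 | hs3
    · rcases ha with rfl | rfl | rfl | rfl
      · exact ⟨0, (Mul.mul h hp hf (Mul.pow h hp hf hs2 0) hca).congr h hp hf (by norm_num)⟩
      · exact ⟨3, (Mul.mul h hp hf (Mul.pow h hp hf hs2 3) hca).congr h hp hf (by norm_num)⟩
      · exact ⟨1, (Mul.mul h hp hf (Mul.pow h hp hf hs2 1) hca).congr h hp hf (by norm_num)⟩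
      · exact ⟨2, (Mul.mul h hp hf (Mul.pow h hp hf hs2 2) hca).congr h hp hf (by norm_num)⟩
    · rcases ha with rfl | rfl | rfl | rfl
      · exact ⟨0, (Mul.mul h hp hf (Mul.pow h hp hf hs3 0) hca).congr h hp hf (by norm_num)⟩
      · exact ⟨1, (Mul.mul h hp hf (Mul.pow h hp hf hs3 1) hca).congr h hp hf (by norm_num)⟩
      · exact ⟨3, (Mul.mul h hp hf (Mul.pow h hp hf hs3 3) hca).congr h hp hf (by norm_num)⟩
      · exact ⟨2, (Mul.mul h hp hf (Mul.pow h hp hf hs3 2) hca).congr h hp hf (by norm_num)⟩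
  obtain ⟨i, hi⟩ := key
  obtain ⟨j, hj⟩ := cent_f h hp hf hi
  exact ⟨i, j, by rwa [← mul_assoc] at hj⟩

/-- (B3') -/
theorem exists_N (h : Tri V U C) (hp : Pt V p) (hq : Pt V q) (hpq : p ≠ q) (hK : Nat.card ↥(K U p) = 64) :
    ∃ N : Subgroup G, N ≤ C p ∧ U p ≤ N ∧ U q ≤ N ∧ (∀ k ∈ K U p, k ∈ N → k ∈ U p) ∧
      (∃ k ∈ K U p, k ∉ N ∧ ∀ c ∈ C p, c ∈ N ∨ c * k ∈ N) := by
  have hKq := card_K_all h hp hq hK
  obtain ⟨f, hf⟩ := exists_isF h hp
  have f5 := pow_five h hp hf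
  obtain ⟨k, hk, hkU⟩ := exists_k h hp hK
  have hsqQ : ∀ x ∈ Q U C p, x * x ∈ U p := fun x hx => sq_mem_U h hp hq hpq hK hx
  have hkk : ∀ l ∈ K U p, l ∈ U p ∨ l * k ∈ U p := by
    intro l hl
    by_cases hlU : l ∈ U p
    · exact Or.inl hlU
    · exact Or.inr (mul_mem_U h hp hK hl hk hlU hkU)
  obtain ⟨O, hUO, hOQ, hOK, hOk, hOC⟩ := TriBO.exists_O (h.U_le_K hp) (h.K_le_Q hp) (kst_le _ _ _) hsqQ
    (fun c hc u hu => h.conj_memU hp hc hu) (fun c hc u hu => conj_mem_K h hp hc hu)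
    (fun c hc u hu => conj_mem_Q h hp hc hu) hf.mem f5 hk hkk
    (fun x hx hfx => fix_Q h hp hq hpq hf hx (h.U_le_K hp hfx))
    (fun c hc => by
      obtain ⟨m, -, hm⟩ := exists_Mul h hp hf (inv_mem hc)
      refine ⟨m, (f ^ m)⁻¹ * (c⁻¹ * f * c⁻¹⁻¹ * (f ^ m)⁻¹) * (f ^ m)⁻¹⁻¹,
        conj_mem_Q h hp (inv_mem (pow_mem hf.mem m)) hm.2, ?_⟩
      group)
  have hkO : k ∉ O := fun h1 => hkU (hOK k h1 hk)
  have hkQ : k ∈ Q U C p := h.K_le_Q hp hk
  -- `[C, Q] ≤ O`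
  have hCQ : ∀ c ∈ C p, ∀ x ∈ Q U C p, c * x * c⁻¹ * x⁻¹ ∈ O := by
    intro c hc x hx
    rcases hOk x hx with h1 | h1
    · exact mul_mem (hOC c hc x h1) (inv_mem h1)
    · rcases hOk _ (conj_mem_Q h hp hc hx) with h2 | h2
      · have h3 := hOC _ (inv_mem hc) _ h2
        have e : c⁻¹ * (c * x * c⁻¹) * c⁻¹⁻¹ = x := by group
        rw [e] at h3
        exact mul_mem h2 (inv_mem h3)
      · have h3 := mul_mem h2 (inv_mem h1)
        have e : c * x * c⁻¹ * k * (x * k)⁻¹ = c * x * c⁻¹ * x⁻¹ := by group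
        rwa [e] at h3
  -- `F_q ≤ O`
  have hFO : U q ⊓ Q U C p ≤ O := by
    obtain ⟨x, hx, hxV, hxx⟩ := exists_x h hp hq hpq
    have hxx' := hsqQ x hx
    have hxCq := h.centV_le hq hxV
    have hw : ∃ u ∈ U q, x * u * x⁻¹ * u⁻¹ ∉ U p := by
      by_contra hcon
      push Not at hcon
      have h1 : 8 ≤ Nat.card V := by
        refine eight_le h hq (c := x * x) (h.U_le_C hq hp hxx') (n := 1) ?_ hxx hq.1 ?_
        · have h2 := h.sqU p hp _ hxx'
          rw [pow_one, pow_two, h2]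
          exact one_mem _
        · intro u hu
          have h2 := hcon u hu
          set e := x * u * x⁻¹ * u⁻¹ with he
          have h3 : x * x * u * (x * x)⁻¹ * u⁻¹ = (x * e * x⁻¹) * e := by rw [he]; group
          rw [h3]
          have hee := h.sqU p hp e h2
          rcases ((h.mem_Q_iff hp).mp hx).2 e h2 with h4 | h4
          · rw [h4, hee]; exact one_mem _
          · rw [h4, mul_assoc, hee, mul_one]; exact hp.1
      rw [h.cardV] at h1
      omega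
    obtain ⟨u, hu, hw⟩ := hw
    set w := x * u * x⁻¹ * u⁻¹ with hwdef
    have huC := h.U_le_C hp hq hu
    have hwq : w ∈ U q := mul_mem (h.conj_memU hq hxCq hu) (inv_mem hu)
    have hwO : w ∈ O := by
      have h1 := inv_mem (hCQ u huC x hx)
      have e : (u * x * u⁻¹ * x⁻¹)⁻¹ = w := by rw [hwdef]; group
      rwa [e] at h1
    have hidx : (U q ⊓ U p).relIndex (U q ⊓ Q U C p) = 2 := by
      have hle : U q ⊓ U p ≤ U q ⊓ Q U C p := inf_le_inf_left _ (U_le_Q h hp)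
      have h1 := card_mul_relIndex' hle
      rw [card_E h hq hp hpq.symm, card_F h hq hp hpq.symm] at h1
      omega
    intro v hv
    by_cases hvU : v ∈ U p
    · exact hUO hvU
    · have h1 := mul_mem_of_relIndex_two hidx hv (⟨hwq, hOQ hwO⟩ : w ∈ U q ⊓ Q U C p)
        (fun h2 => hvU h2.2) (fun h2 => hw h2.2)
      have h2 := mul_mem (hUO h1.2) (inv_mem hwO)
      rwa [mul_inv_cancel_right] at h2
  -- `s`
  obtain ⟨s, hs, hsV, hss⟩ := exists_x h hq hp hpq.symm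
  have hsC := h.centV_le hp hsV
  have hssU : s * s ∈ U q := sq_mem_U h hq hp hpq.symm hKq hs
  have s4 : s ^ 4 = 1 := by
    have h1 := h.sqU q hq _ hssU
    rw [show (4 : ℕ) = 2 + 2 from rfl, pow_add, pow_two, h1]
  have s2 : ∀ j : ℕ, f ^ j * (s * s) ∉ Q U C p := by
    intro j hj
    -- `s * s` has multiplier 1
    have h1 : Mul U C p f (f ^ j * (s * s)) 1 := by
      refine ⟨hj.1, ?_⟩
      rw [pow_one]
      have h2 := mul_mem hj (conj_mem_Q h hp hf.mem (inv_mem hj))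
      have e : f ^ j * (s * s) * (f * (f ^ j * (s * s))⁻¹ * f⁻¹) =
          f ^ j * (s * s) * f * (f ^ j * (s * s))⁻¹ * f⁻¹ := by group
      rwa [e] at h2
    have h2 : Mul U C p f (f ^ (4 * j)) 1 := by
      refine ⟨pow_mem hf.mem _, ?_⟩
      have e : f ^ (4 * j) * f * (f ^ (4 * j))⁻¹ * (f ^ 1)⁻¹ = 1 := by
        rw [← pow_succ, pow_succ', pow_one]; group
      rw [e]; exact one_mem _
    have h3 := Mul.mul h hp hf h2 h1
    have e : f ^ (4 * j) * (f ^ j * (s * s)) = s * s := by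
      rw [← mul_assoc, ← pow_add, show 4 * j + j = 5 * j by ring, pow_mul, f5, one_pow, one_mul]
    rw [e, mul_one] at h3
    refine hss (mem_Q_of_Mul_one h hp hf h3 (n := 1) ?_)
    rw [pow_one, ← pow_two, ← pow_mul, show 2 * 2 = 4 from rfl, s4]
    exact one_mem _
  obtain ⟨N, hNC, hON, fN, sN, hkN, hNk⟩ := TriBO.exists_N hUO hOQ (kst_le _ _ _) hsqQ hOC
    (fun c hc u hu => conj_mem_Q h hp hc hu) hf.mem f5 hf.notMem
    (fun c hc => by
      obtain ⟨m, -, hm⟩ := exists_Mul h hp hf hc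
      refine ⟨m, (f ^ m)⁻¹ * (c * f * c⁻¹ * (f ^ m)⁻¹) * (f ^ m)⁻¹⁻¹,
        conj_mem_Q h hp (inv_mem (pow_mem hf.mem m)) hm.2, ?_⟩
      group)
    hsC s4 s2 (fun c hc => cover h hp hf hsC s4 hss hc) hkQ hkO hOk
  refine ⟨N, hNC, hUO.trans hON, ?_, ?_, k, hk, hkN, hNk⟩
  · intro v hv
    by_cases hvQ : v ∈ Q U C p
    · exact hON (hFO ⟨hv, hvQ⟩)
    · have h1 := mul_mem_Q_of_mem_U h hp hq hq hv hssU hvQ hss
      have h2 : v * (s * s) ∈ N := hON (hFO ⟨mul_mem hv hssU, h1⟩)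
      have h3 := mul_mem h2 (inv_mem (mul_mem sN sN))
      rwa [mul_inv_cancel_right] at h3
  · intro l hl hlN
    by_contra hlU
    have h1 := hON (hUO (mul_mem_U h hp hK hl hk hlU hkU))
    have h2 := mul_mem (inv_mem hlN) h1
    rw [inv_mul_cancel_left] at h2
    exact hkN h2

end Cfsg.Agent.OddCyclic.EO.TF.TriB
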