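import Mathlib
import Cfsg.Agent.OddCyclic.EO.TF.TriAct

/-!
# Section A, supplements: the modules `U_p / ⟨p⟩` and `Q_p / K_p`
-/

set_option autoImplicit false

namespace Cfsg.Agent.OddCyclic.EO.TF.TriMore

open Cfsg.Agent.Classification.TitsFin

open Subgroup Cfsg Cfsg.Agent.ZN Cfsg.Agent.MinSimple.Geo
open Cfsg.Agent.OddCyclic.EO.TF.Tri (Pt kst K Q)
open Cfsg.Agent.Classification.TitsFin.Mod16 Cfsg.Agent.OddCyclic.EO.TF.TriAct
open Cfsg.Agent.ZN.Block (conj_mem_of_normalizer conj_mem_of_normalizer' le_normalizer_of_forall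
  mem_normalizer_of card_sup_mul_card_inf card_mul_relIndex' mul_mem_of_relIndex_two)

universe u

variable {G : Type u} [Group G] {V : Subgroup G} {U C : G → Subgroup G} {p q : G}

/-- (i) `U_p = ⋃ E ^ (f ^ k)` -/
theorem spread_U [Finite G] (h : Tri V U C) (hp : Pt V p) (hq : Pt V q) (hpq : p ≠ q) {f : G}
    (hf : IsF U C p f) {u : G} (hu : u ∈ U p) :
    ∃ k < 5, ∃ e ∈ U p ⊓ U q, u = f ^ k * e * (f ^ k)⁻¹ := by
  obtain ⟨t, ht, htQ⟩ := h.exists_t hp hq hpq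
  obtain ⟨M, _, _, ⟨D⟩⟩ := exists_actData h hp
  have htC := h.U_le_C hp hq ht
  have htt := h.sqU q hq t ht
  have h1 := D.inv_of_sq hf htC (by rw [htt]; exact one_mem _) htQ
  have h2 : D.α ⟨t, htC⟩ * D.α ⟨t, htC⟩ = 1 := by
    rw [← map_mul, D.kerα]
    change t * t ∈ _
    rw [htt]; exact one_mem _
  obtain ⟨k, hk, a, ha, hka⟩ := spread D.card D.sq (D.x5 hf) (D.x1 hf) h2 h1 (D.π ⟨u, hu⟩)
  obtain ⟨⟨e, he⟩, rfl⟩ := D.surj a
  have hfk : f ^ k ∈ C p := pow_mem hf.mem k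
  rw [mem_fx, D.act ⟨t, htC⟩ ⟨e, he⟩ (h.conj_memU hp htC he), D.π_eq_iff] at ha
  have heq : e ∈ U q := (mem_E_iff h hp hq hpq ht htQ he).mpr ha
  have h3 : D.α ⟨f, hf.mem⟩ ^ k = D.α ⟨f ^ k, hfk⟩ := by rw [← map_pow]; rfl
  rw [h3, D.act ⟨f ^ k, hfk⟩ ⟨e, he⟩ (h.conj_memU hp hfk he), D.π_eq_iff] at hka
  have hpp := h.pp hp
  rcases hka with h4 | h4
  · exact ⟨k, hk, e, ⟨he, heq⟩, h4.symm⟩
  · refine ⟨k, hk, p * e, mul_mem (mem_inf.mpr ⟨h.V_le p hp hp.1, h.V_le q hq hp.1⟩) (mem_inf.mpr ⟨he, heq⟩), ?_⟩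
    have h5 : f ^ k * e * (f ^ k)⁻¹ = p * u := h4
    have h6 : f ^ k * p = p * f ^ k := h.c_comm hp hfk
    calc u = p * (p * u) := by rw [← mul_assoc, hpp, one_mul]
      _ = p * f ^ k * e * (f ^ k)⁻¹ := by rw [← h5]; group
      _ = f ^ k * (p * e) * (f ^ k)⁻¹ := by rw [← h6]; group

/-- (iv) an element `x ∉ Q_p`, `x² ∈ Q_p`, fixes exactly 4 elements mod `⟨p⟩` -/
theorem card_fix [Finite G] (h : Tri V U C) (hp : Pt V p) {x : G} (hx : x ∈ C p) (hxx : x * x ∈ Q U C p)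
    (hxQ : x ∉ Q U C p) {W : Subgroup G} (hW : ∀ u, u ∈ W ↔ u ∈ U p ∧ (x * u * x⁻¹ = u ∨ x * u * x⁻¹ = p * u)) :
    Nat.card W = 8 := by
  obtain ⟨M, _, _, ⟨D⟩⟩ := exists_actData h hp
  obtain ⟨f, hf⟩ := exists_isF h hp
  have h1 := D.inv_of_sq hf hx hxx hxQ
  have h2 : D.α ⟨x, hx⟩ * D.α ⟨x, hx⟩ = 1 := by rw [← map_mul, D.kerα]; exact hxx
  have h3 := card_fx D.card D.sq (D.x5 hf) (D.x1 hf) h2 h1
  have h4 := D.card_comap (h.cardU p hp) (fx (D.α ⟨x, hx⟩))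
  rw [h3] at h4
  have hWU : W ≤ U p := fun u hu => ((hW u).mp hu).1
  have h5 : W.subgroupOf (U p) = (fx (D.α ⟨x, hx⟩)).comap D.π := by
    ext u
    rw [mem_subgroupOf, hW, mem_comap, mem_fx, D.act ⟨x, hx⟩ u (h.conj_memU hp hx u.2), D.π_eq_iff]
    exact and_iff_right u.2
  have h6 := Nat.card_congr (subgroupOfEquivOfLe hWU).toEquiv
  rw [← h6, h5, h4]

/-! ### `Q_p / K_p` -/

theorem comm_mem_K (h : Tri V U C) (hp : Pt V p) {c d : G} (hc : c ∈ Q U C p) (hd : d ∈ Q U C p) :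
    c * d * c⁻¹ * d⁻¹ ∈ K U p := by
  have hpp := h.pp hp
  have key : ∀ {c d : G}, c ∈ Q U C p → d ∈ Q U C p → ∀ u ∈ U p,
      (c * d) * u * (c * d)⁻¹ = (d * c) * u * (d * c)⁻¹ := by
    intro c d hc hd u hu
    have hcp := h.c_comm hp hc.1
    have hdp := h.c_comm hp hd.1
    have e1 : (c * d) * u * (c * d)⁻¹ = c * (d * u * d⁻¹) * c⁻¹ := by group
    have e2 : (d * c) * u * (d * c)⁻¹ = d * (c * u * c⁻¹) * d⁻¹ := by group
    have f1 : c * (p * u) * c⁻¹ = p * (c * u * c⁻¹) := by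
      calc c * (p * u) * c⁻¹ = (c * p) * u * c⁻¹ := by group
        _ = p * (c * u * c⁻¹) := by rw [hcp]; group
    have f2 : d * (p * u) * d⁻¹ = p * (d * u * d⁻¹) := by
      calc d * (p * u) * d⁻¹ = (d * p) * u * d⁻¹ := by group
        _ = p * (d * u * d⁻¹) := by rw [hdp]; group
    rw [e1, e2]
    rcases ((h.mem_Q_iff hp).mp hc).2 u hu with h1 | h1 <;> rcases ((h.mem_Q_iff hp).mp hd).2 u hu with h2 | h2
    · rw [h1, h2, h1]
    · rw [h1, h2, f1, h1]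
    · rw [h1, h2, f2, h1, h2]
    · rw [h1, h2, f1, f2, h1, h2]
  rw [mem_centralizer_iff]
  intro u hu
  have h1 := key hc hd ((d * c)⁻¹ * u * (d * c)) (h.conj_memU' hp (mul_mem hd.1 hc.1) hu)
  have e1 : (d * c) * ((d * c)⁻¹ * u * (d * c)) * (d * c)⁻¹ = u := by group
  rw [e1] at h1
  have e2 : c * d * c⁻¹ * d⁻¹ = (c * d) * (d * c)⁻¹ := by group
  rw [e2]
  calc u * ((c * d) * (d * c)⁻¹) = ((c * d) * ((d * c)⁻¹ * u * (d * c)) * (c * d)⁻¹) * ((c * d) * (d * c)⁻¹) := by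
        rw [h1]
    _ = (c * d) * (d * c)⁻¹ * u := by group

theorem sq_mem_K (h : Tri V U C) (hp : Pt V p) {c : G} (hc : c ∈ Q U C p) : c * c ∈ K U p := by
  have hpp := h.pp hp
  rw [mem_centralizer_iff]
  intro u hu
  have hcp := h.c_comm hp hc.1
  rcases ((h.mem_Q_iff hp).mp hc).2 u hu with h1 | h1
  · have h2 : c * u = u * c := mul_inv_eq_iff_eq_mul.mp h1
    calc u * (c * c) = (u * c) * c := by group
      _ = c * u * c := by rw [← h2]
      _ = c * (u * c) := by group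
      _ = c * (c * u) := by rw [h2]
      _ = c * c * u := by group
  · have h2 : c * u = p * u * c := mul_inv_eq_iff_eq_mul.mp h1
    symm
    calc c * c * u = c * (c * u) := by group
      _ = (c * p) * u * c := by rw [h2]; group
      _ = p * (c * u) * c := by rw [hcp]; group
      _ = (p * p) * u * (c * c) := by rw [h2]; group
      _ = u * (c * c) := by rw [hpp, one_mul]

/-- (iii) `f`-fixed classes of `Q_p / K_p` are trivial -/
theorem mem_K_of_fix [Finite G] (h : Tri V U C) (hp : Pt V p) {f : G} (hf : IsF U C p f) {x : G}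
    (hx : x ∈ Q U C p) (hxf : f * x * f⁻¹ * x⁻¹ ∈ K U p) : x ∈ K U p := by
  have hpp := h.pp hp
  have hpU : p ∈ U p := h.V_le p hp hp.1
  -- `B` = the elements of `U_p` centralised by `x`
  let B : Subgroup G := U p ⊓ centralizer ({x} : Set G)
  have hxp := h.c_comm hp hx.1
  have hB : ∀ b, b ∈ B ↔ b ∈ U p ∧ b * x = x * b := fun b => by
    rw [mem_inf, mem_centralizer_singleton_iff]
  -- `B` contains all `f u f⁻¹ u⁻¹`
  have h1 : ∀ u ∈ U p, f * u * f⁻¹ * u⁻¹ ∈ B := by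
    intro u hu
    have hfu := h.conj_memU hp hf.mem hu
    rw [hB]
    refine ⟨mul_mem hfu (inv_mem hu), ?_⟩
    -- the commutators of `x` with `u` and `f u f⁻¹` are equal
    have h2 : x * (f * u * f⁻¹) * x⁻¹ = f * (x * u * x⁻¹) * f⁻¹ := by
      have hk := mem_centralizer_iff.mp hxf (x * (f * u * f⁻¹) * x⁻¹) (h.conj_memU hp hx.1 hfu)
      -- `f x f⁻¹ = k x` with `k ∈ K`
      have e : f * (x * u * x⁻¹) * f⁻¹ = (f * x * f⁻¹ * x⁻¹) * (x * (f * u * f⁻¹) * x⁻¹) *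
          (f * x * f⁻¹ * x⁻¹)⁻¹ := by group
      rw [e, ← hk, mul_inv_cancel_right]
    have hfp := h.c_comm hp hf.mem
    have h3 : (x * (f * u * f⁻¹) * x⁻¹) * (x * u⁻¹ * x⁻¹) = f * u * f⁻¹ * u⁻¹ := by
      rcases ((h.mem_Q_iff hp).mp hx).2 u hu with h4 | h4
      · have h5 : x * u⁻¹ * x⁻¹ = u⁻¹ := by
          have := congrArg (·⁻¹) h4
          simpa [mul_assoc] using this
        rw [h2, h4, h5]
      · have h5 : x * u⁻¹ * x⁻¹ = u⁻¹ * p := by
          have := congrArg (·⁻¹) h4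
          simp only [mul_inv_rev, inv_inv] at this
          rw [inv_eq_self hpp] at this
          rw [← this]; group
        rw [h2, h4, h5]
        calc f * (p * u) * f⁻¹ * (u⁻¹ * p) = (f * p) * u * f⁻¹ * u⁻¹ * p := by group
          _ = p * (f * u * f⁻¹ * u⁻¹) * p := by rw [hfp]; group
          _ = (f * u * f⁻¹ * u⁻¹) * (p * p) := by
              rw [h.commU hp hpU (mul_mem hfu (inv_mem hu)), mul_assoc]
          _ = f * u * f⁻¹ * u⁻¹ := by rw [hpp, mul_one]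
    calc f * u * f⁻¹ * u⁻¹ * x = (x * (f * u * f⁻¹) * x⁻¹) * (x * u⁻¹ * x⁻¹) * x := by rw [h3]
      _ = x * (f * u * f⁻¹ * u⁻¹) := by group
  have hpB : p ∈ B := (hB p).mpr ⟨hpU, hxp.symm⟩
  have h2 : ∀ b ∈ B, f * b * f⁻¹ ∈ B := by
    intro b hb
    have := mul_mem (h1 b hb.1) hb
    rwa [inv_mul_cancel_right] at this
  rcases hf.irred h hp inf_le_left hpB h2 with h3 | h3
  · exfalso
    -- `f` centralises `U_p` mod `p`
    have h4 : ∀ u ∈ U p, u = 1 ∨ u = p := by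
      intro u hu
      refine hf.fixed h hp hu ?_
      rcases h3 _ (h1 u hu) with h5 | h5
      · left; exact mul_inv_eq_one.mp h5
      · right; exact mul_inv_eq_iff_eq_mul.mp h5
    have h5 : (U p : Set G) ⊆ {1, p} := fun u hu => h4 u hu
    have h6 := Set.ncard_le_ncard h5 (Set.toFinite _)
    have h7 : (U p : Set G).ncard = 32 := by
      rw [← h.cardU p hp]; rfl
    have h8 : ({1, p} : Set G).ncard ≤ 2 := Set.ncard_insert_le 1 {p} |>.trans (by rw [Set.ncard_singleton])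
    omega
  · rw [mem_centralizer_iff]
    intro u hu
    have h4 : u ∈ B := (show B = U p from h3) ▸ hu
    exact ((hB u).mp h4).2

/-- the module `N = Q_p / K_p` with the action of `C_p` -/
structure ActQ (U C : G → Subgroup G) (p : G) (N : Type u) [CommGroup N] where
  π : ↥(Q U C p) →* N
  α : ↥(C p) →* MulAut N
  card : Nat.card N = 16
  sq : ∀ m : N, m * m = 1
  surj : Function.Surjective π
  ker : ∀ u, π u = 1 ↔ (u : G) ∈ K U p
  act : ∀ (c : C p) (u : Q U C p) (hcu : (c : G) * u * (c : G)⁻¹ ∈ Q U C p), α c (π u) = π ⟨_, hcu⟩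

theorem exists_actQ [Finite G] (h : Tri V U C) (hp : Pt V p) (hi : (K U p).relIndex (Q U C p) = 16) :
    ∃ (N : Type u) (_ : CommGroup N) (_ : Finite N), Nonempty (ActQ U C p N) := by
  classical
  let N : Subgroup (Q U C p) := (K U p).subgroupOf (Q U C p)
  have hN : ∀ u : Q U C p, u ∈ N ↔ (u : G) ∈ K U p := fun u => mem_subgroupOf
  have hNn : N.Normal := by
    constructor
    intro n hn g
    rw [hN] at hn ⊢
    exact conj_mem_of_normalizer (h.C_le_normK hp) g.2.1 hn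
  let _ : CommGroup (Q U C p ⧸ N) := { (inferInstance : Group (Q U C p ⧸ N)) with
    mul_comm := fun a b => by
      obtain ⟨a, rfl⟩ := QuotientGroup.mk_surjective a
      obtain ⟨b, rfl⟩ := QuotientGroup.mk_surjective b
      change (QuotientGroup.mk (a * b) : Q U C p ⧸ N) = QuotientGroup.mk (b * a)
      rw [QuotientGroup.eq, hN]
      change ((a : G) * b)⁻¹ * (b * a) ∈ _
      have e : ((a : G) * b)⁻¹ * (b * a) = (b : G)⁻¹ * (a : G)⁻¹ * (b : G)⁻¹⁻¹ * (a : G)⁻¹⁻¹ := by group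
      rw [e]
      exact comm_mem_K h hp (inv_mem b.2) (inv_mem a.2) }
  let φ : C p →* MulAut (Q U C p) := (normalizerMonoidHom (Q U C p)).comp (inclusion (h.C_le_normQ hp))
  have hφ : ∀ (c : C p) (u : Q U C p), ((φ c u : Q U C p) : G) = c * u * (c : G)⁻¹ := fun c u => rfl
  have hφN : ∀ c : C p, N.map (φ c : Q U C p →* Q U C p) = N := by
    intro c
    ext u
    constructor
    · rintro ⟨v, hv, rfl⟩
      rw [SetLike.mem_coe, hN] at hv
      rw [hN]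
      exact conj_mem_of_normalizer (h.C_le_normK hp) c.2 hv
    · intro hu
      rw [hN] at hu
      refine ⟨⟨(c : G)⁻¹ * u * c, conj_mem_of_normalizer' (h.C_le_normQ hp) c.2 u.2⟩, ?_, ?_⟩
      · rw [SetLike.mem_coe, hN]
        exact conj_mem_of_normalizer' (h.C_le_normK hp) c.2 hu
      · apply Subtype.ext
        change (c : G) * ((c : G)⁻¹ * u * c) * (c : G)⁻¹ = u
        group
  let α : C p →* MulAut (Q U C p ⧸ N) :=
    { toFun := fun c => QuotientGroup.congr N N (φ c) (hφN c)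
      map_one' := by
        ext m
        obtain ⟨u, rfl⟩ := QuotientGroup.mk_surjective m
        change QuotientGroup.mk ((φ 1) u) = QuotientGroup.mk u
        rw [map_one]; rfl
      map_mul' := fun a b => by
        ext m
        obtain ⟨u, rfl⟩ := QuotientGroup.mk_surjective m
        change QuotientGroup.mk ((φ (a * b)) u) = QuotientGroup.mk ((φ a) ((φ b) u))
        rw [map_mul]; rfl }
  refine ⟨Q U C p ⧸ N, inferInstance, inferInstance, ⟨{
    π := QuotientGroup.mk' N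
    α := α
    card := ?_
    sq := ?_
    surj := QuotientGroup.mk'_surjective N
    ker := ?_
    act := ?_ }⟩⟩
  · exact hi
  · intro m
    obtain ⟨u, rfl⟩ := QuotientGroup.mk_surjective m
    change (QuotientGroup.mk (u * u) : Q U C p ⧸ N) = 1
    rw [QuotientGroup.eq_one_iff, hN]
    exact sq_mem_K h hp u.2
  · intro u
    rw [QuotientGroup.mk'_apply, QuotientGroup.eq_one_iff, hN]
  · intro c u hcu
    rfl

namespace ActQ

variable {N : Type u} [CommGroup N] (D : ActQ U C p N)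

include D

theorem π_eq_iff (u v : Q U C p) : D.π u = D.π v ↔ (u : G) * (v : G)⁻¹ ∈ K U p := by
  rw [← mul_inv_eq_one, ← map_inv, ← map_mul, D.ker]
  rfl

/-- `Q_p` acts trivially -/
theorem α_eq_one (h : Tri V U C) (hp : Pt V p) {c : G} (hc : c ∈ Q U C p) : D.α ⟨c, hc.1⟩ = 1 := by
  ext m
  obtain ⟨u, rfl⟩ := D.surj m
  rw [D.act ⟨c, hc.1⟩ u (conj_mem_of_normalizer (h.C_le_normQ hp) hc.1 u.2)]
  change _ = D.π u
  rw [D.π_eq_iff]
  exact comm_mem_K h hp hc u.2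

theorem eq_of_mul_inv_mem (h : Tri V U C) (hp : Pt V p) {c d : G} (hc : c ∈ C p) (hd : d ∈ C p)
    (hcd : c * d⁻¹ ∈ Q U C p) : D.α ⟨c, hc⟩ = D.α ⟨d, hd⟩ := by
  have h1 := D.α_eq_one h hp hcd
  have e : (⟨c * d⁻¹, hcd.1⟩ : C p) = ⟨c, hc⟩ * (⟨d, hd⟩ : C p)⁻¹ := rfl
  rw [e, map_mul, map_inv, mul_inv_eq_one] at h1
  exact h1

theorem x5 (h : Tri V U C) (hp : Pt V p) {f : G} (hf : IsF U C p f) : D.α ⟨f, hf.mem⟩ ^ 5 = 1 := by
  rw [← map_pow]
  exact D.α_eq_one h hp hf.pow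

theorem x1 [Finite G] (h : Tri V U C) (hp : Pt V p) {f : G} (hf : IsF U C p f) : D.α ⟨f, hf.mem⟩ ≠ 1 := by
  intro he
  have h1 : ∀ u : Q U C p, D.π u = 1 := by
    intro u
    rw [D.ker]
    refine mem_K_of_fix h hp hf u.2 ?_
    have h2 := D.act ⟨f, hf.mem⟩ u (conj_mem_of_normalizer (h.C_le_normQ hp) hf.mem u.2)
    rw [he] at h2
    exact (D.π_eq_iff _ _).mp h2.symm
  have h2 : Nat.card N = 1 := by
    rw [Nat.card_eq_one_iff_unique]
    refine ⟨⟨fun a b => ?_⟩, ⟨1⟩⟩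
    obtain ⟨a, rfl⟩ := D.surj a
    obtain ⟨b, rfl⟩ := D.surj b
    rw [h1, h1]
  rw [D.card] at h2
  omega

theorem inv (h : Tri V U C) (hp : Pt V p) {f c : G} (hf : IsF U C p f) (hc : c ∈ C p)
    (hcf : c * f * c⁻¹ * f ∈ Q U C p) :
    D.α ⟨c, hc⟩ * D.α ⟨f, hf.mem⟩ * (D.α ⟨c, hc⟩)⁻¹ = (D.α ⟨f, hf.mem⟩)⁻¹ := by
  rw [← map_inv, ← map_mul, ← map_inv, ← map_mul]
  refine D.eq_of_mul_inv_mem h hp (mul_mem (mul_mem hc hf.mem) (inv_mem hc)) (inv_mem hf.mem) ?_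
  change c * f * c⁻¹ * f⁻¹⁻¹ ∈ _
  rw [inv_inv]; exact hcf

theorem card_comap [Finite G] (hi : (K U p).relIndex (Q U C p) = 16) (A : Subgroup N) :
    Nat.card (A.comap D.π) = Nat.card (D.π.ker) * Nat.card A := by
  have h1 : (A.comap D.π).index = A.index := index_comap_of_surjective A D.surj
  have h2 := (A.comap D.π).card_mul_index
  have h3 := A.card_mul_index
  have h4 := D.π.ker.card_mul_index
  have h5 : D.π.ker.index = 16 := by
    have : D.π.ker = (K U p).subgroupOf (Q U C p) := by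
      ext u
      rw [MonoidHom.mem_ker, D.ker, mem_subgroupOf]
    rw [this]; exact hi
  rw [h5] at h4
  rw [D.card] at h3
  have h6 : 0 < A.index := by
    rcases Nat.eq_zero_or_pos A.index with h | h
    · rw [h] at h3; omega
    · exact h
  refine Nat.eq_of_mul_eq_mul_right h6 ?_
  rw [← h1, h2, h1, mul_assoc, h3, h4]

end ActQ

/-- (iii) an `f`-invariant subgroup between `K_p` and `Q_p` -/
theorem irredQ [Finite G] (h : Tri V U C) (hp : Pt V p) (hi : (K U p).relIndex (Q U C p) = 16) {f : G}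
    (hf : IsF U C p f) {B : Subgroup G} (hKB : K U p ≤ B) (hB : B ≤ Q U C p) (hinv : ∀ b ∈ B, f * b * f⁻¹ ∈ B) :
    B = K U p ∨ B = Q U C p := by
  obtain ⟨N, _, _, ⟨D⟩⟩ := exists_actQ h hp hi
  have h1 : ∀ a ∈ (B.subgroupOf (Q U C p)).map D.π, D.α ⟨f, hf.mem⟩ a ∈ (B.subgroupOf (Q U C p)).map D.π := by
    rintro _ ⟨⟨b, hb⟩, hbB, rfl⟩
    have hbB' : b ∈ B := hbB
    exact ⟨⟨f * b * f⁻¹, hB (hinv b hbB')⟩, hinv b hbB', (D.act ⟨f, hf.mem⟩ ⟨b, hb⟩ _).symm⟩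
  rcases Mod16.irred D.card (D.x5 h hp hf) (D.x1 h hp hf) h1 with h2 | h2
  · left
    refine le_antisymm (fun b hb => ?_) hKB
    have h3 : D.π ⟨b, hB hb⟩ ∈ (B.subgroupOf (Q U C p)).map D.π := ⟨⟨b, hB hb⟩, hb, rfl⟩
    rw [h2, mem_bot] at h3
    exact (D.ker _).mp h3
  · right
    refine le_antisymm hB fun u hu => ?_
    have h3 : D.π ⟨u, hu⟩ ∈ (B.subgroupOf (Q U C p)).map D.π := by rw [h2]; exact mem_top _
    obtain ⟨⟨b, hb⟩, hbB, he⟩ := h3
    have hbB' : b ∈ B := hbB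
    have h4 : u * b⁻¹ ∈ K U p := (D.π_eq_iff _ _).mp he.symm
    have h5 := mul_mem (hKB h4) hbB'
    rwa [inv_mul_cancel_right] at h5

/-- (ii) if the centraliser `A ≥ K_p` of `t` in `Q_p / K_p` has order `≥ 4`, its translates under `f` cover `Q_p` -/
theorem spread_Q [Finite G] (h : Tri V U C) (hp : Pt V p) (hi : (K U p).relIndex (Q U C p) = 16) {f t : G}
    (hf : IsF U C p f) (ht : t ∈ C p) (htt : t * t ∈ Q U C p) (htQ : t ∉ Q U C p) {A : Subgroup G}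
    (hKA : K U p ≤ A) (hA : A ≤ Q U C p) (hAt : ∀ a ∈ A, t * a * t⁻¹ * a⁻¹ ∈ K U p)
    (hA4 : 4 * Nat.card (K U p) ≤ Nat.card A) {x : G} (hx : x ∈ Q U C p) :
    ∃ k < 5, ∃ a ∈ A, x = f ^ k * a * (f ^ k)⁻¹ := by
  obtain ⟨N, _, _, ⟨D⟩⟩ := exists_actQ h hp hi
  have hinv := D.inv h hp hf ht (hf.inv_of_sq h hp ht htt htQ)
  have htt' : D.α ⟨t, ht⟩ * D.α ⟨t, ht⟩ = 1 := by rw [← map_mul]; exact D.α_eq_one h hp htt
  have h5 := D.x5 h hp hf
  have h1 := D.x1 h hp hf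
  -- `A` is the full preimage of the fixed points
  have hAc : (A.subgroupOf (Q U C p)) = (fx (D.α ⟨t, ht⟩)).comap D.π := by
    have hle : (A.subgroupOf (Q U C p)) ≤ (fx (D.α ⟨t, ht⟩)).comap D.π := by
      intro u hu
      rw [mem_comap, mem_fx, D.act ⟨t, ht⟩ u (conj_mem_of_normalizer (h.C_le_normQ hp) ht u.2), D.π_eq_iff]
      exact hAt u hu
    refine Subgroup.eq_of_le_of_card_ge hle ?_
    rw [D.card_comap hi, card_fx D.card D.sq h5 h1 htt' hinv]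
    have e1 : D.π.ker = (K U p).subgroupOf (Q U C p) := by
      ext u
      rw [MonoidHom.mem_ker, D.ker, mem_subgroupOf]
    rw [e1, Nat.card_congr (subgroupOfEquivOfLe (h.K_le_Q hp)).toEquiv,
      Nat.card_congr (subgroupOfEquivOfLe hA).toEquiv, mul_comm]
    exact hA4
  obtain ⟨k, hk, a, ha, hka⟩ := spread D.card D.sq h5 h1 htt' hinv (D.π ⟨x, hx⟩)
  obtain ⟨⟨a, haQ⟩, rfl⟩ := D.surj a
  have hfk : f ^ k ∈ C p := pow_mem hf.mem k
  have haA : a ∈ A := by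
    have : (⟨a, haQ⟩ : Q U C p) ∈ A.subgroupOf (Q U C p) := by rw [hAc]; exact ha
    exact this
  have h3 : D.α ⟨f, hf.mem⟩ ^ k = D.α ⟨f ^ k, hfk⟩ := by rw [← map_pow]; rfl
  have hfa := conj_mem_of_normalizer (h.C_le_normQ hp) hfk haQ
  rw [h3, D.act ⟨f ^ k, hfk⟩ ⟨a, haQ⟩ hfa, D.π_eq_iff] at hka
  have h4 : f ^ k * a * (f ^ k)⁻¹ * x⁻¹ ∈ K U p := hka
  -- `x = m⁻¹ f^k a f^-k`, `m ∈ K`
  refine ⟨k, hk, (f ^ k)⁻¹ * (f ^ k * a * (f ^ k)⁻¹ * x⁻¹)⁻¹ * f ^ k * a, mul_mem (hKA ?_) haA, by group⟩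
  exact conj_mem_of_normalizer' (h.C_le_normK hp) hfk (inv_mem h4)

end Cfsg.Agent.OddCyclic.EO.TF.TriMore
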