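import Mathlib
import Cfsg.Agent.OddCyclic.EO.TF.TriMore
import Cfsg.Agent.OddCyclic.EO.TF.TriQK
import Cfsg.Agent.OddCyclic.EO.TF.TriFin

/-!
# Section A, supplements: the elements of `E - V` are not conjugate to `p`
-/

set_option autoImplicit false

namespace Cfsg.Agent.OddCyclic.EO.TF.TriTypeB

open Cfsg.Agent.Classification.TitsFin

open Subgroup Cfsg Cfsg.Agent.ZN Cfsg.Agent.MinSimple.Geo
open Cfsg.Agent.OddCyclic.EO.TF.Tri (Pt kst K Q)
open Cfsg.Agent.Classification.TitsFin.Mod16 Cfsg.Agent.OddCyclic.EO.TF.TriAct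
open Cfsg.Agent.OddCyclic.EO.TF.TriMore Cfsg.Agent.OddCyclic.EO.TF.TriQK
open Cfsg.Agent.OddCyclic.EO.TF.TriFin
open Cfsg.Agent.ZN.Block (conj_mem_of_normalizer conj_mem_of_normalizer' le_normalizer_of_forall
  mem_normalizer_of card_sup_mul_card_inf card_mul_relIndex' mul_mem_of_relIndex_two)

universe u

variable {G : Type u} [Group G] [Finite G] {V : Subgroup G} {U C : G → Subgroup G} {p q : G}

theorem relIndex_V_E (h : Tri V U C) (hp : Pt V p) (hq : Pt V q) (hpq : p ≠ q) :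
    V.relIndex (U p ⊓ U q) = 2 := by
  have h1 := card_mul_relIndex' (le_inf (h.V_le p hp) (h.V_le q hq))
  rw [h.cardV, card_E h hp hq hpq] at h1
  omega

/-- `3 ∤ |C_p|` -/
theorem not_three_dvd (h : Tri V U C) (hp : Pt V p) : ¬ 3 ∣ Nat.card (C p) := by
  have h1 := card_mul_relIndex' (Tri.kst_le (C p) (U p) p)
  rw [show (kst (C p) (U p) p).relIndex (C p) = 20 from relIndex_Q h hp] at h1
  obtain ⟨n, hn⟩ := (IsPGroup.iff_card).mp (isPGroup_Q h hp)
  rw [show Nat.card (kst (C p) (U p) p) = 2 ^ n from hn] at h1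
  rw [← h1]
  intro h2
  rcases (Nat.Prime.dvd_mul (by norm_num)).mp h2 with h3 | h3
  · exact absurd (Nat.Prime.dvd_of_dvd_pow (by norm_num) h3) (by norm_num)
  · exact absurd h3 (by norm_num)

/-- an element of `N_G(V)` of order divisible by 3 centralises an element of `E - V` -/
theorem exists_three (h : Tri V U C) (hp : Pt V p) (hq : Pt V q) (hpq : p ≠ q) :
    ∃ e ∈ U p ⊓ U q, e ∉ V ∧ ∃ n, n * e = e * n ∧ 3 ∣ orderOf n := by
  obtain ⟨hr, hr1, hr2⟩ := h.third hp hq hpq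
  obtain ⟨n, hn, h1, h2⟩ := h.sym p q q (p * q) hp hq hpq hq hr hr2.symm
  have hpp := h.pp hp
  have hqq := h.pp hq
  have hcomm := h.commV hp hq
  obtain ⟨e, he, heV⟩ := exists_E h hp hq hpq
  -- `n` normalises `E`
  have hnE : n * e * n⁻¹ ∈ U p ⊓ U q := by
    have h3 : n * e * n⁻¹ ∈ cj n (U p) ⊓ cj n (U q) := mem_inf.mpr ⟨conj_mem_cj he.1, conj_mem_cj he.2⟩
    rw [h.conjU n hn p hp, h.conjU n hn q hq, h1, h2] at h3
    rwa [inf_eq h hp hq hpq hq hr hr2.symm]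
  have hnV : n * e * n⁻¹ ∉ V := by
    intro h3
    have := conj_mem_of_normalizer' (le_refl (normalizer (V : Set G))) hn h3
    have e1 : n⁻¹ * (n * e * n⁻¹) * n = e := by group
    rw [e1] at this
    exact heV this
  have hee : e⁻¹ = e := inv_eq_self (h.sqU p hp e he.1)
  have hv : e * (n * e * n⁻¹) ∈ V := mul_mem_of_relIndex_two (relIndex_V_E h hp hq hpq) he hnE heV hnV
  -- find `w ∈ V` with `n (e w) n⁻¹ = e w`
  have hnpq : n * (p * q) * n⁻¹ = p := by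
    have : n * (p * q) * n⁻¹ = (n * p * n⁻¹) * (n * q * n⁻¹) := by group
    rw [this, h1, h2, hcomm, ← mul_assoc, hqq, one_mul]
  have key : ∃ w ∈ V, n * w * n⁻¹ = e * (n * e * n⁻¹) * w := by
    rcases (mem_V_iff h hp hq hpq).mp hv with h3 | h3 | h3 | h3
    · exact ⟨1, one_mem _, by rw [h3]; group⟩
    · refine ⟨q, hq.1, ?_⟩
      rw [h3, h2]
    · refine ⟨p * q, hr.1, ?_⟩
      rw [h3, hnpq, hcomm, ← mul_assoc, hqq, one_mul]
    · refine ⟨p, hp.1, ?_⟩
      rw [h3, h1, hcomm, mul_assoc, hpp, mul_one]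
  obtain ⟨w, hw, hw'⟩ := key
  have hew : e * w = w * e := h.commU hp he.1 (h.V_le p hp hw)
  have hwE : w ∈ U p ⊓ U q := mem_inf.mpr ⟨h.V_le p hp hw, h.V_le q hq hw⟩
  refine ⟨e * w, mul_mem he hwE, fun h3 => heV ((mul_mem_cancel_right hw).mp h3), n, ?_, ?_⟩
  · have h4 : n * (e * w) * n⁻¹ = e * w := by
      have e1 : n * (e * w) * n⁻¹ = (n * e * n⁻¹) * (n * w * n⁻¹) := by group
      rw [e1, hw']
      have hx := h.commU hp he.1 hnE.1
      have hxx := h.sqU p hp _ hnE.1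
      calc n * e * n⁻¹ * (e * (n * e * n⁻¹) * w) = (n * e * n⁻¹) * ((n * e * n⁻¹) * e) * w := by
            rw [hx]; group
        _ = ((n * e * n⁻¹) * (n * e * n⁻¹)) * (e * w) := by group
        _ = e * w := by rw [hxx, one_mul]
    exact mul_inv_eq_iff_eq_mul.mp h4
  · by_contra h3
    have h4 : Nat.Coprime 3 (orderOf n) := (Nat.Prime.coprime_iff_not_dvd (by norm_num)).mpr h3
    obtain ⟨m, hm⟩ := exists_pow_eq_self_of_coprime h4
    have h5 : Commute (n ^ 3) p := by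
      change n ^ 3 * p = p * n ^ 3
      have e1 : n ^ 3 * p * (n ^ 3)⁻¹ = n * (n * (n * p * n⁻¹) * n⁻¹) * n⁻¹ := by
        rw [pow_succ, pow_two]; group
      have e2 : n ^ 3 * p * (n ^ 3)⁻¹ = p := by rw [e1, h1, h2, hnpq]
      exact mul_inv_eq_iff_eq_mul.mp e2
    have h6 := h5.pow_left m
    rw [hm] at h6
    rw [h6.eq, mul_inv_cancel_right] at h1
    exact hpq h1

/-- `C_G(V)` is transitive on `E - V` -/
theorem exists_conj_E (h : Tri V U C) (hp : Pt V p) (hq : Pt V q) (hpq : p ≠ q) {e e' : G}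
    (he : e ∈ U p ⊓ U q) (he' : e' ∈ U p ⊓ U q) (heV : e ∉ V) (heV' : e' ∉ V) :
    ∃ c ∈ centralizer (V : Set G), c * e * c⁻¹ = e' := by
  have hpp := h.pp hp
  have hqq := h.pp hq
  have hcomm := h.commV hp hq
  obtain ⟨c, hc, hcV, hce⟩ := exists_move_V h hp he.1 heV
  obtain ⟨d, hd, hdV, hde⟩ := exists_move_V h hq he.2 heV
  have hee : e * e = 1 := h.sqU p hp e he.1
  have hv : e' * e ∈ V := mul_mem_of_relIndex_two (relIndex_V_E h hp hq hpq) he' he heV' heV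
  have e1 : e' = (e' * e) * e := by rw [mul_assoc, hee, mul_one]
  rcases (mem_V_iff h hp hq hpq).mp hv with h3 | h3 | h3 | h3
  · exact ⟨1, one_mem _, by rw [e1, h3]; group⟩
  · exact ⟨c, hcV, by rw [hce, e1, h3]⟩
  · exact ⟨d, hdV, by rw [hde, e1, h3]⟩
  · refine ⟨c * d, mul_mem hcV hdV, ?_⟩
    have hcq : c * q * c⁻¹ = q := by
      rw [← mem_centralizer_iff.mp hcV q hq.1, mul_inv_cancel_right]
    calc c * d * e * (c * d)⁻¹ = c * (d * e * d⁻¹) * c⁻¹ := by group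
      _ = (c * q * c⁻¹) * (c * e * c⁻¹) := by rw [hde]; group
      _ = q * (p * e) := by rw [hcq, hce]
      _ = e' := by rw [e1, h3, ← mul_assoc, hcomm]

/-- elements of `E - V` are not conjugate to `p` -/
theorem not_conj (h : Tri V U C) (hp : Pt V p) (hq : Pt V q) (hpq : p ≠ q) (hC : C p = centralizer ({p} : Set G))
    {e g : G} (he : e ∈ U p ⊓ U q) (heV : e ∉ V) : g * e * g⁻¹ ≠ p := by
  intro hg
  obtain ⟨e₀, he₀, heV₀, n, hn, h3⟩ := exists_three h hp hq hpq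
  obtain ⟨c, -, hc⟩ := exists_conj_E h hp hq hpq he₀ he heV₀ heV
  -- `g c n c⁻¹ g⁻¹ ∈ C_G(p)`
  have h1 : (g * c) * n * (g * c)⁻¹ ∈ C p := by
    rw [hC, mem_centralizer_singleton_iff, ← hg, ← hc]
    calc g * c * n * (g * c)⁻¹ * (g * (c * e₀ * c⁻¹) * g⁻¹) = g * c * (n * e₀) * c⁻¹ * g⁻¹ := by group
      _ = g * c * (e₀ * n) * c⁻¹ * g⁻¹ := by rw [hn]
      _ = g * (c * e₀ * c⁻¹) * g⁻¹ * (g * c * n * (g * c)⁻¹) := by group
  have h4 : orderOf ((g * c) * n * (g * c)⁻¹) = orderOf n := by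
    rw [← MulAut.conj_apply]; exact (MulAut.conj (g * c)).orderOf_eq n
  have h5 : orderOf (⟨_, h1⟩ : C p) ∣ Nat.card (C p) := orderOf_dvd_natCard _
  rw [← orderOf_coe, show orderOf ((⟨g * c * n * (g * c)⁻¹, h1⟩ : C p) : G) = orderOf n from h4] at h5
  exact not_three_dvd h hp (h3.trans h5)

/-- the conjugates of `p` in `U_p` : `p` and the other points of the lines `V ^ c`, `c ∈ C_p` -/
theorem eq_or_exists (h : Tri V U C) (hp : Pt V p) (hq : Pt V q) (hpq : p ≠ q)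
    (hC : C p = centralizer ({p} : Set G)) {u g : G} (hu : u ∈ U p) (hg : g * u * g⁻¹ = p) :
    u = p ∨ ∃ c ∈ C p, u = c * q * c⁻¹ := by
  obtain ⟨f, hf⟩ := exists_isF h hp
  obtain ⟨k, -, e, he, rfl⟩ := spread_U h hp hq hpq hf hu
  have hfk : f ^ k ∈ C p := pow_mem hf.mem k
  have heV : e ∈ V := by
    by_contra heV
    refine not_conj h hp hq hpq hC (g := g * f ^ k) he heV ?_
    rw [← hg]; group
  rcases (mem_V_iff h hp hq hpq).mp heV with h1 | h1 | h1 | h1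
  · exfalso
    rw [h1] at hg
    apply hp.2
    rw [← hg]; group
  · left
    rw [h1, h.c_comm hp hfk, mul_inv_cancel_right]
  · right
    exact ⟨f ^ k, hfk, by rw [h1]⟩
  · right
    obtain ⟨c, hc, hcq⟩ := exists_move h hp (h.p_mem hq hp) hq.2 hpq.symm
    refine ⟨f ^ k * c, mul_mem hfk hc.1, ?_⟩
    rw [h1, ← hcq]; group

end Cfsg.Agent.OddCyclic.EO.TF.TriTypeB
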