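import Mathlib
import Cfsg.Agent.OddCyclic.EO.Fifteen
import Cfsg.Agent.OddCyclic.EO.TF.TriFin
import Cfsg.Agent.OddCyclic.EO.TF.TriB4

/-!
# `n = 1`, `|V_z| = 32`, `|F| = 5`: the structure `Tri` and the final configuration `FinHyp`
-/

set_option autoImplicit false
set_option linter.unusedSectionVars false
set_option linter.style.haveILetI false

namespace Cfsg.Agent.OddCyclic.EO.TF.Of

open Subgroup Cfsg Cfsg.Agent.ZN Cfsg.Agent.MinSimple.Geo Cfsg.Agent.OddCyclic.GeoC Cfsg.Agent.OddCyclic.BTwoA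
  Cfsg.Agent.OddCyclic.EO.Line Cfsg.Agent.OddCyclic.EO.Base Cfsg.Agent.OddCyclic.EO.RepM
  Cfsg.Agent.OddCyclic.EO.Fit Cfsg.Agent.OddCyclic.EO.FitB Cfsg.Agent.OddCyclic.EO.FitC
  Cfsg.Agent.OddCyclic.EO.Sit Cfsg.Agent.OddCyclic.EO.Two Cfsg.Agent.OddCyclic.EO.One
  Cfsg.Agent.OddCyclic.EO.OneOf Cfsg.Agent.OddCyclic.EO.Tri Cfsg.Agent.OddCyclic.EO.Quad
open Cfsg.Agent.ZN.Block (conj_mem_of_normalizer conj_mem_of_normalizer' le_normalizer_of_forall
  mem_normalizer_of card_mul_relIndex')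

universe u

/-- a self-centralizing normal subgroup of order 5 -/
theorem card_X {X : Type u} [Group X] [Finite X] {F : Subgroup X} (hF : Nat.card F = 5) (hn : F.Normal)
    (hc : centralizer (F : Set X) ≤ F) {s : X} (hs : s * s = 1) (hs1 : s ≠ 1) :
    Nat.card X = 10 ∨ Nat.card X = 20 := by
  haveI : Fact (Nat.Prime 5) := ⟨by norm_num⟩
  haveI hcyc : IsCyclic F := isCyclic_of_prime_card hF
  have hab : ∀ a ∈ F, ∀ b ∈ F, a * b = b * a := by
    intro a ha b hb
    letI := hcyc.commGroup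
    exact congrArg Subtype.val (mul_comm (⟨a, ha⟩ : F) ⟨b, hb⟩)
  let φ : X →* MulAut F := MulAut.conjNormal
  have hker : φ.ker = F := by
    apply le_antisymm
    · intro x hx
      refine hc (mem_centralizer_iff.mpr fun f hf => ?_)
      have h1 : φ x = 1 := hx
      have h2 : ((φ x ⟨f, hf⟩ : F) : X) = f := by rw [h1]; rfl
      rw [MulAut.conjNormal_apply] at h2
      exact (mul_inv_eq_iff_eq_mul.mp h2).symm
    · intro x hx
      rw [MonoidHom.mem_ker]
      ext ⟨f, hf⟩
      rw [MulAut.conjNormal_apply]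
      change x * f * x⁻¹ = f
      rw [hab x hx f hf, mul_inv_cancel_right]
  have h1 := Subgroup.card_eq_card_quotient_mul_card_subgroup φ.ker
  rw [Nat.card_congr (QuotientGroup.quotientKerEquivRange φ).toEquiv, hker, hF] at h1
  have h2 : Nat.card φ.range ∣ Nat.card (MulAut F) := card_subgroup_dvd_card _
  rw [IsCyclic.card_mulAut, hF, Nat.totient_prime (by norm_num)] at h2
  have h3 : 2 ∣ Nat.card X := by
    rw [← orderOf_eq_prime (p := 2) (by rw [pow_two]; exact hs) hs1]
    exact orderOf_dvd_natCard s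
  have h4 : Nat.card φ.range ≤ 4 := Nat.le_of_dvd (by norm_num) h2
  have h5 : Nat.card φ.range = 1 ∨ Nat.card φ.range = 2 ∨ Nat.card φ.range = 4 := by
    interval_cases Nat.card φ.range <;> omega
  rcases h5 with e | e | e <;> rw [e] at h1 <;> omega

variable {G : Type u} [Group G]

/-- `V_x ∩ K_y` and `V_y` do not commute -/
def HnA (V : Subgroup G) (x y : G) : Prop := ¬ ∀ w ∈ ws V x, w ∈ kq V y → ∀ b ∈ ws V y, b * w = w * b

theorem HnA.conj {V : Subgroup G} {x y : G} (h : HnA V x y) (g : G) : HnA V (g * x * g⁻¹) (g * y * g⁻¹) := by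
  intro hc
  apply h
  intro w hw hwk b hb
  have h1 := hc (g * w * g⁻¹) (by rw [← cj_ws]; exact conj_mem_cj hw) (by rw [← cj_kq0]; exact conj_mem_cj hwk)
    (g * b * g⁻¹) (by rw [← cj_ws]; exact conj_mem_cj hb)
  calc b * w = g⁻¹ * (g * b * g⁻¹ * (g * w * g⁻¹)) * g := by group
    _ = w * b := by rw [h1]; group

variable [Finite G] {T V : Subgroup G} {z x y : G}

theorem kst_eq (V : Subgroup G) (p : G) : TF.Tri.kst (centralizer ({p} : Set G)) (ws V p) p = kq V p := by
  ext c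
  constructor
  · rintro ⟨h1, -, h2, h3⟩
    exact ⟨h1, h2, h3⟩
  · rintro ⟨h1, h2, h3⟩
    exact ⟨h1, mem_centralizer_singleton_iff.mp h1, h2, h3⟩

/-- the data at `z` -/
theorem at_z (h : One T V z) (h8 : Nat.card (ws V z) ≠ 8) (hy : y ∈ V) (hy1 : y ≠ 1) (hyz : y ≠ z)
    (hnA : HnA V z y) : Nat.card (ws V z) = 32 ∧
      ((kq V z).relIndex (centralizer ({z} : Set G)) = 10 ∨ (kq V z).relIndex (centralizer ({z} : Set G)) = 20) := by
  have hcol : Col V z y := Base.col_of_mem h.toGeoC h.z_mem hy h.z_ne hy1 (Ne.symm hyz)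
  obtain ⟨M, X, _, _, _, ⟨R⟩⟩ := exists_rep h.toOdd (Pt.refl z)
  haveI : Finite M := R.finite_left
  haveI : Finite X := R.finite_right
  obtain ⟨F, A, g, hamb, hgood, hcent, hgF, hq, hF, hfx⟩ := quad h hy hy1 hyz h8 hnA R
  have h32 : Nat.card (ws V z) = 32 := by rw [card_M h.toOdd (Pt.refl z) R, hq.card]
  refine ⟨h32, ?_⟩
  rcases hF with hF | hF
  · obtain ⟨b, hb, hbk⟩ := h.exists_not_mem hcol
    have hbc := ws_le_cent h.toOdd hcol hb
    have hbb : b * b = 1 := Base.ws_sq h.toOdd (hcol.pt h.toGeoC) hb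
    have h1 := card_X hF hamb.norm hcent (s := R.rho b) (by rw [← R.rho_mul b hbc b hbc, hbb, R.rho_one])
      (by rw [Ne, Rep.rho_eq_one R hbc]; exact hbk)
    have h2 : (kq V z).relIndex (centralizer ({z} : Set G)) = Nat.card X := by
      have e : (kq V z).subgroupOf (centralizer ({z} : Set G)) = R.hom.ker := by
        ext ⟨c, hc⟩
        rw [mem_subgroupOf, MonoidHom.mem_ker]
        exact (Rep.rho_eq_one R hc).symm
      rw [relIndex, e, Subgroup.index, Nat.card_congr (QuotientGroup.quotientKerEquivOfSurjective _ R.hom_surj).toEquiv]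
    rw [h2]; exact h1
  · exact (Fifteen.false_of_fifteen h hy hy1 hyz R hamb hgood hq hF hfx).elim

/-- **from the geometry to `Tri`** -/
theorem tri_of (h : One T V z) (h8 : Nat.card (ws V z) ≠ 8) (hy : y ∈ V) (hy1 : y ≠ 1) (hyz : y ≠ z)
    (hnA : HnA V z y) (h5 : DegR.NFive G) :
    TF.Tri V (ws V) (fun p => centralizer ({p} : Set G)) := by
  have hat : ∀ p, NOf.PtV V p → Nat.card (ws V p) = 32 ∧
      ((kq V p).relIndex (centralizer ({p} : Set G)) = 10 ∨ (kq V p).relIndex (centralizer ({p} : Set G)) = 20) := by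
    intro p hp
    obtain ⟨T', h'⟩ := One.point h hp.1 hp.2
    obtain ⟨q, hq, hq1, hqp⟩ := h'.exists_y
    obtain ⟨n, hn, hnz, hny⟩ := NOf.sym h.toOdd ⟨h.z_mem, h.z_ne⟩ ⟨hy, hy1⟩ (Ne.symm hyz) hp ⟨hq, hq1⟩
      (Ne.symm hqp)
    have h2 := hnA.conj n
    rw [hnz, hny] at h2
    refine at_z h' ?_ hq hq1 hqp h2
    rw [← hnz, ← cj_ws, card_cj]
    exact h8
  exact
  { cardV := h.card_V
    sqV := h.sq
    cardU := fun p hp => (hat p hp).1
    sqU := by
      intro p hp u hu
      obtain ⟨T', h'⟩ := h.toOdd.point hp.1 hp.2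
      exact h'.ws_sq hu
    V_le := by
      intro p hp
      obtain ⟨T', h'⟩ := h.toOdd.point hp.1 hp.2
      exact h'.V_le_ws
    C_le := fun p _ => le_rfl
    C_norm := fun p _ => Cfsg.Agent.MinSimple.Geo.centralizer_le_normalizer_ws V p
    le_C := fun p _ => inf_le_right
    sym := fun p q p' q' hp hq hpq hp' hq' hpq' => NOf.sym h.toOdd hp hq hpq hp' hq' hpq'
    conjU := by
      intro n hn p _
      rw [cj_ws]
    conjC := by
      intro n hn p _
      rw [cj_centralizer_singleton]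
    idx := by
      intro p hp
      rw [kst_eq]
      exact (hat p hp).2
    nc := fun p q hp hq hpq => NOf.nc h hp hq hpq
    core := by
      intro p hp R hR hN hC
      obtain ⟨T', h'⟩ := h.toOdd.point hp.1 hp.2
      exact h'.core R hR hN hC
    five := h5
    char2 := by
      intro p hp
      obtain ⟨T', h'⟩ := h.toOdd.point hp.1 hp.2
      exact Cfsg.Agent.MinSimple.Basic.char2_centralizer h.charTwo (by rw [pow_two]; exact h'.zz) h'.z_ne }

omit [Finite G] in
theorem index_ne_two [IsSimpleGroup G] {V : Subgroup G} (hV : Nat.card V = 4) (N : Subgroup G) : N.index ≠ 2 := by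
  intro hN
  have hn : N.Normal := normal_of_index_eq_two hN
  rcases hn.eq_bot_or_eq_top with e | e
  · rw [e, index_bot] at hN
    have h1 : Nat.card V ∣ Nat.card G := V.card_subgroup_dvd_card
    rw [hV, hN] at h1
    exact absurd h1 (by norm_num)
  · rw [e, index_top] at hN
    exact absurd hN (by norm_num)

/-- **the final configuration** -/
theorem finHyp_of [IsSimpleGroup G] (h : One T V z) (h8 : Nat.card (ws V z) ≠ 8) (hy : y ∈ V) (hy1 : y ≠ 1)
    (hyz : y ≠ z) (hnA : HnA V z y) (h5 : DegR.NFive G) : Cfsg.Agent.Classification.TitsFin.FinHyp z y := by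
  have ht := tri_of h h8 hy hy1 hyz hnA h5
  have hz : TF.Tri.Pt V z := ⟨h.z_mem, h.z_ne⟩
  have hq : TF.Tri.Pt V y := ⟨hy, hy1⟩
  rcases TriTen.card_K ht hz with hK | hK
  · exact TriFin.finHyp ht hz hq (Ne.symm hyz) rfl hK
  · exact (TriB.caseB_false ht hz hq (Ne.symm hyz) hK rfl (index_ne_two h.card_V)).elim

end Cfsg.Agent.OddCyclic.EO.TF.Of
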