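import Mathlib
import Cfsg.Agent.OddCyclic.EO.TF.Of
import Cfsg.Agent.OddCyclic.EO.TF.End5
import Cfsg.Agent.OddCyclic.T1StructQ
import Cfsg.Agent.Classification.TitsFin.Final

/-!
# The Tits configuration is impossible in a group whose Sylow subgroups for odd primes are cyclic
-/

set_option autoImplicit false
set_option linter.unusedSectionVars false
set_option linter.style.haveILetI false

namespace Cfsg.Agent.OddCyclic.EO.TF.End

open Subgroup Cfsg Cfsg.Agent.ZN Cfsg.Agent.MinSimple.Geo Cfsg.Agent.OddCyclic.GeoC Cfsg.Agent.OddCyclic.BTwoA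
  Cfsg.Agent.OddCyclic.EO.Line Cfsg.Agent.OddCyclic.EO.Base Cfsg.Agent.OddCyclic.EO.RepM
  Cfsg.Agent.OddCyclic.EO.Fit Cfsg.Agent.OddCyclic.EO.FitB Cfsg.Agent.OddCyclic.EO.FitC
  Cfsg.Agent.OddCyclic.EO.Sit Cfsg.Agent.OddCyclic.EO.Two Cfsg.Agent.OddCyclic.EO.One
  Cfsg.Agent.OddCyclic.EO.OneOf Cfsg.Agent.OddCyclic.EO.Tri Cfsg.Agent.OddCyclic.EO.Quad
  Cfsg.Agent.OddCyclic.T1Defs
open Cfsg.Agent.ZN.Block (conj_mem_of_normalizer conj_mem_of_normalizer' le_normalizer_of_forall
  mem_normalizer_of card_mul_relIndex')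

universe u

variable {G : Type u} [Group G] [Finite G] {T V : Subgroup G} {z x y : G}

/-- a 2-element acting on a module of order 16 and commuting with `g` is trivial -/
theorem eq_one_of_two {X : Type u} [Group X] [Finite X] {M : Type u} [AddCommGroup M] [Finite M]
    [DistribMulAction X M] {g : X} (hq : QM M g) {s : X} (hs : s * g = g * s) {n : ℕ} (hn : s ^ 2 ^ n = 1) : s = 1 := by
  classical
  haveI : Fact (Nat.Prime 2) := ⟨Nat.prime_two⟩
  have hp : IsPGroup 2 (zpowers s) := by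
    rintro ⟨x, hx⟩
    obtain ⟨k, rfl⟩ := hx
    refine ⟨n, Subtype.ext ?_⟩
    change (s ^ k) ^ 2 ^ n = 1
    rw [← zpow_natCast, ← zpow_mul, mul_comm, zpow_mul, zpow_natCast, hn, one_zpow]
  have h1 := hp.card_modEq_card_fixedPoints M
  rw [hq.card] at h1
  obtain ⟨m, hm, hm0⟩ : ∃ m ∈ MulAction.fixedPoints (zpowers s) M, m ≠ 0 := by
    by_contra hcon
    push Not at hcon
    have h2 : MulAction.fixedPoints (zpowers s) M = {0} := by
      ext m
      rw [Set.mem_singleton_iff]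
      constructor
      · exact hcon m
      · rintro rfl
        exact fun a => smul_zero a
    rw [h2, Nat.card_coe_set_eq, Set.ncard_singleton] at h1
    exact absurd h1 (by decide)
  exact hq.eq_one hs hm0 (hm ⟨s, mem_zpowers s⟩)

theorem false_of_tits [IsSimpleGroup G] (hc : OddCyc G) (h : One T V z) (h8 : Nat.card (ws V z) ≠ 8)
    (hy : y ∈ V) (hy1 : y ≠ 1) (hyz : y ≠ z) (hnA : Of.HnA V z y) (h5 : DegR.NFive G) : False := by
  haveI : Fact (Nat.Prime 5) := ⟨by norm_num⟩
  have hfin := Of.finHyp_of h h8 hy hy1 hyz hnA h5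
  have ht := Of.tri_of h h8 hy hy1 hyz hnA h5
  have hU : Cfsg.Agent.Classification.TitsFin.U z y z = ws V z :=
    TriFin.U_eq ht ⟨h.z_mem, h.z_ne⟩ ⟨hy, hy1⟩ (Ne.symm hyz) rfl
  have hG := Cfsg.Agent.Classification.TitsFin.Final.card_eq hfin h.charTwo
  have hCz := hfin.cardC
  obtain ⟨M, X, _, _, _, ⟨R⟩⟩ := exists_rep h.toOdd (Pt.refl z)
  haveI : Finite M := R.finite_left
  haveI : Finite X := R.finite_right
  obtain ⟨F, A, g, hamb, hgood, hcent, hgF, hq, hF, hfx⟩ := quad h hy hy1 hyz h8 hnA R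
  obtain ⟨f, hf, hfg, k, hk⟩ := R.exists_lift (p := 5) (by norm_num) (g := g) (k := 1)
    (by rw [pow_one, ← hq.o5]; exact pow_orderOf_eq_one g)
  have hfz : f * z = z * f := mem_centralizer_singleton_iff.mp hf
  have hf5 : orderOf f = 5 := by
    have h1 : orderOf f ∣ 5 ^ k := orderOf_dvd_of_pow_eq_one hk
    obtain ⟨j, hj, hj'⟩ := (Nat.dvd_prime_pow (by norm_num)).mp h1
    have h2 : orderOf f ∣ 10240 := by
      rw [← hCz]
      have := orderOf_dvd_natCard (⟨f, hf⟩ : centralizer ({z} : Set G))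
      rwa [orderOf_mk] at this
    rcases j with _ | _ | j
    · exfalso
      rw [pow_zero, orderOf_eq_one_iff] at hj'
      rw [hj', R.rho_one] at hfg
      have h3 := hq.o5
      rw [← hfg, orderOf_one] at h3
      norm_num at h3
    · rw [hj', zero_add, pow_one]
    · exfalso
      rw [hj'] at h2
      have h3 : 5 ^ 2 ∣ 5 ^ (j + 1 + 1) := pow_dvd_pow 5 (by omega)
      exact absurd (h3.trans h2) (by norm_num)
  have two := Rep.two h.toOdd (Pt.refl z) R
  -- the 2-elements of `C(z)` commuting with `f`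
  have h2 : ∀ s : G, s * z = z * s → s * f = f * s → (∃ n : ℕ, s ^ 2 ^ n = 1) → s = 1 ∨ s = z := by
    rintro s hsz hsf ⟨n, hn⟩
    have hsC : s ∈ centralizer ({z} : Set G) := mem_centralizer_singleton_iff.mpr hsz
    have h1 : R.rho s = 1 := by
      refine eq_one_of_two hq (s := R.rho s) (n := n) ?_ (by rw [← R.rho_pow hsC, hn, R.rho_one])
      rw [← hfg, ← R.rho_mul s hsC f hf, ← R.rho_mul f hf s hsC, hsf]
    have hsk : s ∈ kq V z := (Rep.rho_eq_one R hsC).mp h1
    have hzp : ∀ {w : G}, w ∈ zpowers z ↔ w = 1 ∨ w = z := mem_zpowers_iff_of_mul_self h.zz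
    -- `s` centralizes `[V_z, f]`
    have h3 : ∀ u ∈ ws V z, s * (f * u * f⁻¹ * u⁻¹) * s⁻¹ = f * u * f⁻¹ * u⁻¹ := by
      intro u hu
      obtain ⟨ζ, hζ, hζ'⟩ : ∃ ζ : G, ζ ∈ zpowers z ∧ s * u * s⁻¹ = ζ * u :=
        ⟨s * u * s⁻¹ * u⁻¹, hsk.2.1 u hu, by group⟩
      have hζf : f * ζ = ζ * f := by
        rcases hzp.mp hζ with e | e
        · rw [e, mul_one, one_mul]
        · rw [e, hfz]
      have hζu : ∀ w ∈ ws V z, ζ * w = w * ζ := by
        intro w hw
        rcases hzp.mp hζ with e | e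
        · rw [e, mul_one, one_mul]
        · rw [e]; exact Base.ws_comm h.toOdd (Pt.refl z) (h.V_le_ws h.z_mem) hw
      calc s * (f * u * f⁻¹ * u⁻¹) * s⁻¹ = (s * f) * u * (s * f)⁻¹ * (s * u * s⁻¹)⁻¹ := by group
        _ = (f * s) * u * (f * s)⁻¹ * (s * u * s⁻¹)⁻¹ := by rw [hsf]
        _ = f * (s * u * s⁻¹) * f⁻¹ * (s * u * s⁻¹)⁻¹ := by group
        _ = f * (ζ * u) * f⁻¹ * (ζ * u)⁻¹ := by rw [hζ']
        _ = (f * ζ) * u * f⁻¹ * (ζ * u)⁻¹ := by group
        _ = ζ * (f * u * f⁻¹) * (ζ * u)⁻¹ := by rw [hζf]; group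
        _ = (f * u * f⁻¹) * ζ * (ζ * u)⁻¹ := by rw [hζu _ (R.conj_mem hf hu)]
        _ = (f * u * f⁻¹) * ζ * (u * ζ)⁻¹ := by rw [hζu u hu]
        _ = f * u * f⁻¹ * u⁻¹ := by group
    have h4 : ∀ u ∈ ws V z, s * u = u * s := by
      intro u hu
      -- `g - 1` is surjective
      let φ : M →+ M :=
        { toFun := fun m => g • m + m
          map_zero' := by simp
          map_add' := fun x y => by rw [_root_.smul_add]; abel }
      have hinj : Function.Injective φ := by
        rw [injective_iff_map_eq_zero]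
        intro m hm
        have hm' : g • m + m = 0 := hm
        refine hq.fpf (m := m) ?_
        calc g • m = g • m + (m + m) := by rw [two, add_zero]
          _ = m := by rw [← add_assoc, hm', zero_add]
      obtain ⟨m, hm⟩ := (Finite.injective_iff_surjective.mp hinj) (R.pi u)
      obtain ⟨v, hv, rfl⟩ := R.pi_surj m
      have hm' : g • R.pi v + R.pi v = R.pi u := hm
      have hfv : f * v * f⁻¹ * v⁻¹ ∈ ws V z := mul_mem (R.conj_mem hf hv) (inv_mem hv)
      have e1 : R.pi (f * v * f⁻¹ * v⁻¹) = R.pi u := by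
        rw [R.pi_mul _ (R.conj_mem hf hv) _ (inv_mem hv), R.pi_inv hv, ← R.smul_pi f hf v hv, hfg,
          neg_eq_of_add_eq_zero_left (two (R.pi v)), hm']
      have e2 := h3 v hv
      have e3 : s * (f * v * f⁻¹ * v⁻¹) = (f * v * f⁻¹ * v⁻¹) * s := mul_inv_eq_iff_eq_mul.mp e2
      rcases (Rep.pi_eq_pi h.toOdd (Pt.refl z) R hfv hu).mp e1 with e | e
      · rw [← e]; exact e3
      · have e4 : u = z * (f * v * f⁻¹ * v⁻¹) := by rw [e, ← mul_assoc, h.zz, one_mul]
        rw [e4, ← mul_assoc, hsz, mul_assoc, e3, ← mul_assoc]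
    have h5 : s ∈ ws V z := by
      rw [← hU]
      exact hfin.cent s fun u hu => h4 u (by rw [← hU]; exact hu)
    have h6 : R.pi s = 0 := by
      refine hq.fpf (m := R.pi s) ?_
      rw [← hfg, R.smul_pi f hf s h5, ← hsf, mul_inv_cancel_right]
    exact (Rep.pi_eq_zero' h.toOdd (Pt.refl z) R h5).mp h6
  -- `C(f)`
  have hzD : z ∈ centralizer ({f} : Set G) := mem_centralizer_singleton_iff.mpr hfz.symm
  have hfD : f ∈ centralizer ({f} : Set G) := mem_centralizer_singleton_iff.mpr rfl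
  refine End5.core_step (D := ↥(centralizer ({f} : Set G))) (z := ⟨z, hzD⟩) (f := ⟨f, hfD⟩)
    (Subtype.ext h.zz) (fun e => h.z_ne (congrArg Subtype.val e)) (by rw [orderOf_mk]; exact hf5)
    (fun d => Subtype.ext (mem_centralizer_singleton_iff.mp d.2))
    (Cfsg.Agent.OddCyclic.T1StructQ.OddCyc.of_injective (f := (centralizer ({f} : Set G)).subtype) (Subgroup.subtype_injective _) hc)
    ?_ ?_ ?_
  · have hf5' : IsPGroup 5 (zpowers f) := IsPGroup.of_card (n := 1) (by rw [Nat.card_zpowers, hf5, pow_one])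
    obtain ⟨P, hP⟩ := hf5'.exists_le_sylow
    haveI hcyc : IsCyclic P := hc 5 P (by norm_num) (by norm_num)
    have hPle : (P : Subgroup G) ≤ centralizer ({f} : Set G) := by
      intro x hx
      rw [mem_centralizer_singleton_iff]
      letI := hcyc.commGroup
      exact congrArg Subtype.val (mul_comm (⟨x, hx⟩ : P) ⟨f, hP (mem_zpowers f)⟩)
    have h4 : 5 ^ 2 ∣ Nat.card P := Sylow.pow_dvd_card_of_pow_dvd_card P (by rw [hG]; norm_num)
    exact (show 25 ∣ Nat.card P by norm_num at h4; exact h4).trans (Subgroup.card_dvd_of_le hPle)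
  · intro h25
    have h4 : (centralizer ({(⟨z, hzD⟩ : centralizer ({f} : Set G))} : Set ↥(centralizer ({f} : Set G)))).map
        (centralizer ({f} : Set G)).subtype ≤ centralizer ({z} : Set G) := by
      rintro _ ⟨c, hc, rfl⟩
      rw [mem_centralizer_singleton_iff]
      exact congrArg Subtype.val (mem_centralizer_singleton_iff.mp hc)
    have h6 : Nat.card ((centralizer ({(⟨z, hzD⟩ : centralizer ({f} : Set G))} :
        Set ↥(centralizer ({f} : Set G)))).map (centralizer ({f} : Set G)).subtype) =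
        Nat.card (centralizer ({(⟨z, hzD⟩ : centralizer ({f} : Set G))} : Set ↥(centralizer ({f} : Set G)))) :=
      (Nat.card_congr (Subgroup.equivMapOfInjective _ _ (Subgroup.subtype_injective _)).toEquiv).symm
    have h7 := Subgroup.card_dvd_of_le h4
    rw [h6, hCz] at h7
    exact absurd (h25.trans h7) (by norm_num)
  · rintro ⟨s, hs⟩ hsz ⟨n, hn⟩
    rcases h2 s (congrArg Subtype.val hsz) (mem_centralizer_singleton_iff.mp hs) ⟨n, congrArg Subtype.val hn⟩ with e | e
    · left; exact Subtype.ext e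
    · right; exact Subtype.ext e

end Cfsg.Agent.OddCyclic.EO.TF.End
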